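import Cfsg.Agent.Lib.SelfThree.Core
import Cfsg.Agent.S0495
import Mathlib.LinearAlgebra.Matrix.SpecialLinearGroup

/-!
# Groups with a self-centralizing element of order three
-/

set_option autoImplicit false
set_option linter.style.haveILetI false
set_option linter.unusedSectionVars false

namespace Cfsg.Agent.SelfThree

open Subgroup

universe u

/-- The special linear group of degree two over the field with seven elements. -/
abbrev SLSeven := Matrix.SpecialLinearGroup (Fin 2) (ZMod 7)

/-- A matrix of determinant one. -/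
def sevenMat (a b c d : ZMod 7) (h : a * d - b * c = 1) : SLSeven :=
  ⟨!![a, b; c, d], by rw [Matrix.det_fin_two_of]; exact h⟩

def sevenA : SLSeven := sevenMat 2 0 0 4 (by decide)
def sevenB : SLSeven := sevenMat 1 1 4 5 (by decide)
def sevenU : SLSeven := sevenMat 1 1 0 1 (by decide)
def sevenH : SLSeven := sevenMat 4 0 0 2 (by decide)
def sevenZ : SLSeven := sevenMat 6 0 0 6 (by decide)

theorem sevenZ_mem : sevenZ ∈ center SLSeven := by
  refine mem_center_iff.2 fun g => Subtype.ext ?_
  change (g : Matrix (Fin 2) (Fin 2) (ZMod 7)) * !![6, 0; 0, 6] = !![6, 0; 0, 6] * (g : Matrix (Fin 2) (Fin 2) (ZMod 7))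
  ext i j
  fin_cases i <;> fin_cases j <;> simp [Matrix.mul_apply, Fin.sum_univ_two] <;> ring

theorem mem_center_of_eq {m : SLSeven} (h : m = 1 ∨ m = sevenZ) : m ∈ center SLSeven := by
  rcases h with rfl | rfl
  exacts [one_mem _, sevenZ_mem]

theorem notMem_center_of_ne {m g : SLSeven} (h : g * m ≠ m * g) : m ∉ center SLSeven :=
  fun hm => h (mem_center_iff.1 hm g)

theorem sevenA_pow : sevenA ^ 3 = 1 := by decide
theorem sevenB_pow : sevenB ^ 3 = 1 := by decide
theorem sevenAB_pow : (sevenA * sevenB) ^ 3 = sevenZ := by decide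
theorem sevenABA_sq : sevenA * sevenB * sevenA * (sevenA * sevenB * sevenA) = sevenZ := by decide
theorem sevenU_pow : sevenU ^ 7 = 1 := by decide
theorem sevenH_pow : sevenH ^ 3 = 1 := by decide
theorem seven_rel : sevenH * sevenU * sevenH⁻¹ * (sevenU * sevenU)⁻¹ = 1 := by decide
theorem sevenUH : ∀ j : Fin 7, (sevenU ^ (j : ℕ) * sevenH) ^ 3 = 1 ∧
    sevenU * (sevenU ^ (j : ℕ) * sevenH) ≠ sevenU ^ (j : ℕ) * sevenH * sevenU := by decide
theorem sevenA_ne : sevenU * sevenA ≠ sevenA * sevenU := by decide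
theorem sevenB_ne : sevenU * sevenB ≠ sevenB * sevenU := by decide
theorem sevenAB_ne : sevenU * (sevenA * sevenB) ≠ sevenA * sevenB * sevenU := by decide
theorem sevenABA_ne : sevenU * (sevenA * sevenB * sevenA) ≠ sevenA * sevenB * sevenA * sevenU := by decide
theorem sevenU_ne : sevenA * sevenU ≠ sevenU * sevenA := sevenA_ne.symm
theorem sevenH_ne : sevenU * sevenH ≠ sevenH * sevenU := by decide
theorem seven_comm_ne : sevenU * ((sevenB * sevenA)⁻¹ * (sevenA * sevenB)) ≠
    (sevenB * sevenA)⁻¹ * (sevenA * sevenB) * sevenU := by decide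

variable {G : Type u} [Group G] [Finite G] {x : G}

/-- A normal subgroup with simple quotient is maximal among the normal subgroups. -/
theorem max_of_simple (N : Subgroup G) [N.Normal] [IsSimpleGroup (G ⧸ N)] (L : Subgroup G) (hL : L.Normal)
    (hNL : N ≤ L) : L = N ∨ L = ⊤ := by
  rcases (hL.map _ (QuotientGroup.mk'_surjective N)).eq_bot_or_eq_top with e | e
  · left
    exact le_antisymm (by rw [← QuotientGroup.ker_mk' N]; exact (map_eq_bot_iff L).1 e) hNL
  · right
    have := congrArg (Subgroup.comap (QuotientGroup.mk' N)) e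
    rwa [comap_map_eq, QuotientGroup.ker_mk', sup_of_le_left hNL, comap_top] at this

theorem Self.seven_case (hx : Self x) (N : Subgroup G) [N.Normal] (h3 : ¬ 3 ∣ Nat.card N)
    [IsSimpleGroup (G ⧸ N)] (h168 : Nat.card (G ⧸ N) = 168) : N = ⊥ := by
  haveI : Fact (Nat.Prime 7) := ⟨by norm_num⟩
  obtain ⟨e⟩ := Cfsg.Agent.S0495.result (G := G ⧸ N) h168 (F := ZMod 7) (ZMod.card 7)
  let π : SLSeven →* Matrix.ProjectiveSpecialLinearGroup (Fin 2) (ZMod 7) := QuotientGroup.mk' _
  let f : G →* Matrix.ProjectiveSpecialLinearGroup (Fin 2) (ZMod 7) :=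
    e.toMonoidHom.comp (QuotientGroup.mk' N)
  have hf : ∀ g : G, f g = 1 ↔ g ∈ N := fun g =>
    (e.map_eq_one_iff).trans (QuotientGroup.eq_one_iff g)
  have hpre : ∀ m : SLSeven, ∃ g : G, f g = π m := fun m =>
    (e.surjective.comp (QuotientGroup.mk'_surjective N)) (π m)
  have hone : ∀ {m : SLSeven}, m = 1 ∨ m = sevenZ → π m = 1 := fun h =>
    (QuotientGroup.eq_one_iff _).2 (mem_center_of_eq h)
  have hnon : ∀ {m g : SLSeven}, g * m ≠ m * g → π m ≠ 1 := fun h h' =>
    notMem_center_of_ne h ((QuotientGroup.eq_one_iff _).1 h')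
  obtain ⟨a, ha⟩ := hpre sevenA
  obtain ⟨b, hb⟩ := hpre sevenB
  obtain ⟨v, hv⟩ := hpre sevenU
  obtain ⟨h, hh⟩ := hpre sevenH
  have T : Tetra N a b := by
    refine ⟨max_of_simple N, h3, ?_, ?_, ?_, ?_, ?_, ?_, ?_, ?_, ?_⟩
    all_goals rw [← hf]
    all_goals simp only [map_pow, map_mul, map_inv, ha, hb]
    all_goals (try simp only [← map_pow, ← map_inv, ← map_mul])
    · exact hone (Or.inl sevenA_pow)
    · exact hnon sevenA_ne
    · exact hone (Or.inl sevenB_pow)
    · exact hnon sevenB_ne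
    · exact hone (Or.inr sevenAB_pow)
    · exact hnon sevenAB_ne
    · exact hnon seven_comm_ne
    · exact hone (Or.inr sevenABA_sq)
    · exact hnon sevenABA_ne
  refine eq_bot_of_tetra_seven hx N T (u := v) (h := h) ?_ ?_ ?_ ?_ ?_ fun i => ?_
  all_goals (try rw [← hf])
  · rw [map_pow, hv, ← map_pow]; exact hone (Or.inl sevenU_pow)
  · rw [hv]; exact hnon sevenU_ne
  · rw [map_pow, hh, ← map_pow]; exact hone (Or.inl sevenH_pow)
  · rw [hh]; exact hnon sevenH_ne
  · simp only [map_mul, map_inv, hv, hh]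
    simp only [← map_inv, ← map_mul]
    exact hone (Or.inl seven_rel)
  · have hi := sevenUH ⟨i % 7, Nat.mod_lt _ (by norm_num)⟩
    have e7 : sevenU ^ i = sevenU ^ (i % 7) := pow_eq_pow_mod i sevenU_pow
    constructor
    · rw [map_pow, map_mul, map_pow, hv, hh, ← map_pow, ← map_mul, ← map_pow, e7]
      exact hone (Or.inl hi.1)
    · rw [← hf, map_mul, map_pow, hv, hh, ← map_pow, ← map_mul, e7]
      exact hnon hi.2

/-- The structure of a group with a self-centralizing element of order three. -/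
theorem shape_of_self : ∀ n : ℕ, ∀ {G : Type u} [Group G] [Finite G] {x : G}, Self x →
    Nat.card G = n → Shape G := by
  intro n
  induction n using Nat.strong_induction_on with
  | _ n ih =>
  intro G _ _ x hx hn
  subst hn
  set N := Cfsg.pPrimeCore 3 G with hN
  have h3 : ¬ 3 ∣ Nat.card N := PLocal.Cores.not_dvd_card_pPrimeCore (by norm_num)
  have hle : Nat.card (G ⧸ N) ≤ Nat.card G := Nat.card_le_card_of_surjective _ (QuotientGroup.mk'_surjective N)
  rcases (hx.quotient N h3).card_of_core_eq_bot PLocal.Cores.pPrimeCore_quotient_pPrimeCore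
    (fun H hH hne => by
      refine ih _ (lt_of_lt_of_le ?_ hle) ((hx.quotient N h3).subgroup hH) rfl
      refine lt_of_le_of_ne (Nat.le_of_dvd Nat.card_pos (card_subgroup_dvd_card H)) fun h => hne ?_
      exact eq_top_of_card_eq H h) with h | ⟨hs, h⟩
  · exact ⟨N, inferInstance, h3, Or.inl (by rw [index_eq_card]; exact h)⟩
  haveI := hs
  rcases h with h | h
  · have hidx : N.index = 60 := by rw [index_eq_card]; exact h
    obtain ⟨b, T⟩ := exists_tetra hx h3 hidx hs
    obtain ⟨hc, hq⟩ := elementary_of_tetra _ hx N T rfl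
    exact ⟨N, inferInstance, h3, Or.inr (Or.inl ⟨h3, hidx, hs, hc, hq⟩)⟩
  · have hb := hx.seven_case N h3 h
    refine ⟨N, inferInstance, h3, Or.inr (Or.inr ⟨hb, ?_, ?_⟩)⟩
    · haveI : Nontrivial G := ⟨⟨x, 1, hx.ne_one⟩⟩
      exact ⟨fun L hL => by
        rcases max_of_simple N L hL (hb ▸ bot_le) with e | e
        · exact Or.inl (e.trans hb)
        · exact Or.inr e⟩
    · have := card_mul_index N
      rw [index_eq_card, h, hb, card_bot, one_mul] at this
      exact this.symm

end Cfsg.Agent.SelfThree
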