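import Mathlib

/-!
# The arithmetic behind the theorem on a self-centralizing subgroup of order three
-/

set_option autoImplicit false

namespace Cfsg.Agent.SelfThree.Arith

/-- Largest contribution of an exceptional Sylow two-subgroup. -/
def eMax (L : ℕ) : ℕ :=
  ((List.range (L / 420 + 1)).map fun j =>
    if 64 ≤ 4 * j ∧ 4 * j % 3 = 1 ∧ L % (60 * j) = 0 then 4 * j - 1 else 0).foldl max 0

/-- The sum over the possible orders of the small invariant subgroups. -/
def xSum (L : ℕ) : ℕ :=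
  ((List.range 142).map fun m =>
    if m % 3 = 1 ∧ 3 * (m * m) ≤ L ∧ L % (3 * m) = 0 then m - 1 else 0).sum

/-- The possible square roots of the orders of the subgroups fixed by the involution. -/
def sCand (L : ℕ) : List ℕ :=
  (List.range 38).filter fun r => 2 ≤ r && 42 * (r * r) ≤ L && L % (6 * (r * r)) == 0

/-- Second largest root when `r₁` is the largest one. -/
def rp (L r₁ : ℕ) : ℕ :=
  ((sCand L).filter fun r => r ≤ r₁ && 6 * (r * r * (r₁ * r₁)) ≤ L).foldl max 0

/-- Largest contribution of the subgroups fixed by the involution. -/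
def sMax (L c : ℕ) : ℕ :=
  ((sCand L).map fun r₁ => r₁ * r₁ - 1 + (rp L r₁ + 1) * (c - 2 - (r₁ - 1))).foldl max 0

/-- The bound fails to reach the class multiplication constant. -/
def ok (L d c : ℕ) : Bool :=
  L == 60 || L == 168 ||
    Nat.blt (9 * (d * (d + 1)) * (1 + 2 * (xSum L + eMax L) + sMax L c)) (L * (d * d + d + 1))

/-- One triple of parameters. -/
def step (d v c : ℕ) : Bool :=
  if (3 * (c * c) * (d * (d + 1))) % (v * v) != 0 then true else
    let L := 3 * (c * c) * (d * (d + 1)) / (v * v)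
    if Nat.blt 60000 L then true else if L % (d * (d + 1)) != 0 then true else ok L d c

/-- The finite check. -/
def check : Bool :=
  (List.range 58).all fun i => let d := 3 * i + 4
    (List.range ((2 * d - 1) / 4)).all fun j => let v := 4 * (j + 1)
      if Nat.blt (282 + 4 * d * v + 2 * v) (2 * d * d + 2 * v * v + 2 * d + 2) then true else
        (List.range 141).all fun k => let c := 2 * (k + 1)
          if c % 3 == 0 || Nat.blt (c + 4 * d * v + 2 * v) (2 * d * d + 2 * v * v + 2 * d + 2) then true else step d v c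

theorem check_true : check = true := by decide +kernel

theorem le_foldl_max : ∀ (l : List ℕ) (a x : ℕ), x ≤ a ∨ x ∈ l → x ≤ l.foldl max a
  | [], _, _, h => by simpa using h
  | b :: l, a, x, h => by
    rw [List.foldl_cons]
    refine le_foldl_max l _ _ ?_
    rcases h with h | h
    · exact Or.inl (le_max_of_le_left h)
    · rcases List.mem_cons.1 h with rfl | h
      · exact Or.inl (le_max_right _ _)
      · exact Or.inr h

/-- Numbers at most `s` with product below `(s + 1) ^ 2` have a small sum. -/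
theorem sum_le_three (s : ℕ) : ∀ n : ℕ, ∀ M : Multiset ℕ, Multiset.card M = n → (∀ m ∈ M, 1 ≤ m ∧ m ≤ s) →
    M.prod < (s + 1) * (s + 1) → (M.map fun m => m - 1).sum ≤ 3 * s := by
  intro n
  induction n with
  | zero => intro M hM _ _; rw [Multiset.card_eq_zero.1 hM]; simp
  | succ n ih =>
    intro M hM hb hp
    by_cases hn : n ≤ 2
    · have h1 := Multiset.sum_le_card_nsmul (M.map fun m => m - 1) s (by
        intro x hx
        obtain ⟨m, hm, rfl⟩ := Multiset.mem_map.1 hx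
        have := hb m hm
        omega)
      rw [Multiset.card_map, hM, smul_eq_mul] at h1
      nlinarith
    by_cases hpair : ∃ a b : ℕ, ∃ t : Multiset ℕ, M = a ::ₘ b ::ₘ t ∧ a * b ≤ s
    · obtain ⟨a, b, t, rfl, hab⟩ := hpair
      have ha := (hb a (by simp)).1
      have hb' := (hb b (by simp)).1
      have hrec := ih ((a * b) ::ₘ t) (by simpa using hM) (by
          intro m hm
          rcases Multiset.mem_cons.1 hm with rfl | hm
          · exact ⟨Nat.one_le_iff_ne_zero.2 (mul_ne_zero (by omega) (by omega)), hab⟩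
          · exact hb m (by simp [hm]))
        (by simpa [mul_assoc] using hp)
      simp only [Multiset.map_cons, Multiset.sum_cons] at hrec ⊢
      have : a - 1 + (b - 1) ≤ a * b - 1 := by
        obtain ⟨u, rfl⟩ := Nat.exists_eq_add_of_le ha
        obtain ⟨w, rfl⟩ := Nat.exists_eq_add_of_le hb'
        simp only [Nat.add_sub_cancel_left]
        have : (1 + u) * (1 + w) = 1 + (u + w + u * w) := by ring
        omega
      omega
    exfalso
    push Not at hpair
    obtain ⟨a, ha⟩ := Multiset.card_pos_iff_exists_mem.1 (show 0 < Multiset.card M by omega)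
    obtain ⟨t, rfl⟩ := Multiset.exists_cons_of_mem ha
    rw [Multiset.card_cons] at hM
    obtain ⟨b, hb1⟩ := Multiset.card_pos_iff_exists_mem.1 (show 0 < Multiset.card t by omega)
    obtain ⟨t, rfl⟩ := Multiset.exists_cons_of_mem hb1
    rw [Multiset.card_cons] at hM
    obtain ⟨e, he⟩ := Multiset.card_pos_iff_exists_mem.1 (show 0 < Multiset.card t by omega)
    obtain ⟨t, rfl⟩ := Multiset.exists_cons_of_mem he
    rw [Multiset.card_cons] at hM
    obtain ⟨f, hf⟩ := Multiset.card_pos_iff_exists_mem.1 (show 0 < Multiset.card t by omega)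
    obtain ⟨t, rfl⟩ := Multiset.exists_cons_of_mem hf
    have h1 := hpair a b _ rfl
    have h2 := hpair e f (a ::ₘ b ::ₘ t) (by
      simp only [← Multiset.singleton_add]
      abel)
    have ht : 1 ≤ t.prod := Nat.one_le_iff_ne_zero.2 (Multiset.prod_ne_zero fun h => by
      have := (hb 0 (by simp [h])).1
      omega)
    simp only [Multiset.prod_cons] at hp
    have : (s + 1) * (s + 1) ≤ a * b * (e * f) := Nat.mul_le_mul h1 h2
    have h3 : a * b * (e * f) ≤ a * b * (e * f) * t.prod := Nat.le_mul_of_pos_right _ ht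
    have h4 : a * (b * (e * (f * t.prod))) = a * b * (e * f) * t.prod := by ring
    omega

theorem ok_of_params {L d c : ℕ} {a : ℤ} (hd : d % 3 = 1) (hd4 : 4 ≤ d) (ha4 : (4 : ℤ) ∣ d - a)
    (ha : |a| < d) (hc : a ^ 2 + (a + 1) ^ 2 + 1 ≤ c) (hc2 : 2 ∣ c) (hc3 : ¬ 3 ∣ c)
    (hL : (L : ℤ) * (d - a) ^ 2 = 3 * (c : ℤ) ^ 2 * d * (d + 1)) (hdd : d * (d + 1) ∣ L)
    (hdeg : 1 + d * d + (d + 1) * (d + 1) ≤ L) (hB : L ≤ 60000) : ok L d c = true := by
  obtain ⟨q, hq⟩ := ha4
  rw [abs_lt] at ha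
  obtain ⟨j, hj⟩ := Int.eq_ofNat_of_zero_le (show 0 ≤ q - 1 by omega)
  have hq1 : q = (j : ℤ) + 1 := by omega
  have haeq : a = (d : ℤ) - 4 * ((j : ℤ) + 1) := by omega
  have hL' : L * ((4 * (j + 1)) * (4 * (j + 1))) = 3 * (c * c) * (d * (d + 1)) := by
    have : ((L * ((4 * (j + 1)) * (4 * (j + 1))) : ℕ) : ℤ) = ((3 * (c * c) * (d * (d + 1)) : ℕ) : ℤ) := by
      push_cast
      rw [haeq] at hL
      linear_combination hL
    exact_mod_cast this
  have hcond : 2 * d * d + 2 * (4 * (j + 1)) * (4 * (j + 1)) + 2 * d + 2 ≤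
      c + 4 * d * (4 * (j + 1)) + 2 * (4 * (j + 1)) := by
    have : ((2 * d * d + 2 * (4 * (j + 1)) * (4 * (j + 1)) + 2 * d + 2 : ℕ) : ℤ) ≤
        ((c + 4 * d * (4 * (j + 1)) + 2 * (4 * (j + 1)) : ℕ) : ℤ) := by
      push_cast
      rw [haeq] at hc
      nlinarith
    exact_mod_cast this
  have hd175 : d ≤ 173 := by nlinarith
  have hjd : j < (2 * d - 1) / 4 := by omega
  have hc282 : c ≤ 282 := by
    by_contra hgt
    have h1 : 283 * 283 ≤ c * c := Nat.mul_le_mul (by omega) (by omega)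
    have h2 : (4 * (j + 1)) * (4 * (j + 1)) ≤ 4 * (d * (d + 1)) := by
      calc (4 * (j + 1)) * (4 * (j + 1)) ≤ (2 * d) * (2 * d) := Nat.mul_le_mul (by omega) (by omega)
        _ = 4 * (d * d) := by ring
        _ ≤ _ := Nat.mul_le_mul_left _ (Nat.mul_le_mul_left _ (Nat.le_succ d))
    have h3 : L * ((4 * (j + 1)) * (4 * (j + 1))) ≤ 60000 * (4 * (d * (d + 1))) := Nat.mul_le_mul hB h2
    rw [hL'] at h3
    have h4 : 3 * (283 * 283) * (d * (d + 1)) ≤ 3 * (c * c) * (d * (d + 1)) :=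
      Nat.mul_le_mul_right _ (by omega)
    have hP : 0 < d * (d + 1) := Nat.mul_pos (by omega) (by omega)
    have h5 : 60000 * (4 * (d * (d + 1))) = 240000 * (d * (d + 1)) := by ring
    omega
  obtain ⟨k, rfl⟩ := hc2
  have hc2' : 2 ≤ k * 2 := by
    rcases Nat.eq_zero_or_pos k with rfl | hk
    · exfalso
      push_cast at hc
      nlinarith [sq_nonneg a, sq_nonneg (a + 1)]
    · omega
  have h := check_true
  simp only [check, List.all_eq_true, List.mem_range] at h
  have h1 := h ((d - 4) / 3) (by omega) j (by omega)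
  rw [show 3 * ((d - 4) / 3) + 4 = d by omega] at h1
  rw [if_neg (by rw [Nat.blt_eq]; omega)] at h1
  simp only [List.all_eq_true, List.mem_range] at h1
  have h2 := h1 (k - 1) (by omega)
  rw [show 2 * (k - 1 + 1) = 2 * k by omega] at h2
  rw [if_neg (by
    rw [Bool.or_eq_true, not_or, beq_iff_eq, Nat.blt_eq]
    exact ⟨fun h => hc3 (Nat.dvd_of_mod_eq_zero h), by omega⟩)] at h2
  simp only [step] at h2
  have hv : 0 < (4 * (j + 1)) * (4 * (j + 1)) := by positivity
  rw [← hL', Nat.mul_mod_left, Nat.mul_div_cancel _ hv] at h2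
  simpa [Nat.mod_eq_zero_of_dvd, hdd, Nat.blt_eq, Nat.not_lt.2 hB, Nat.mod_eq_zero_of_dvd hdd] using h2

set_option maxHeartbeats 800000 in
/-- The arithmetical conclusion. -/
theorem card_eq_of_bounds {L d c U : ℕ} {a : ℤ} (hd : d % 3 = 1) (hd4 : 4 ≤ d) (ha4 : (4 : ℤ) ∣ d - a)
    (ha : |a| < d) (hc : a ^ 2 + (a + 1) ^ 2 + 1 ≤ c) (hc2 : 2 ∣ c) (hc3 : ¬ 3 ∣ c)
    (hL : (L : ℤ) * (d - a) ^ 2 = 3 * (c : ℤ) ^ 2 * d * (d + 1)) (hdd : d * (d + 1) ∣ L)
    (hdeg : 1 + d * d + (d + 1) * (d + 1) ≤ L) (hU : 9 * (d * (d + 1)) * U = L * (d * d + d + 1))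
    (MX : Finset ℕ) (hX : ∀ m ∈ MX, 2 ≤ m ∧ m % 3 = 1 ∧ 3 * m ∣ L ∧
      (3 * (m * m) ≤ L ∨ (4 ∣ m ∧ 64 ≤ m ∧ 15 * m ∣ L ∧ 105 * m ≤ L)))
    (hcop : (MX : Set ℕ).Pairwise Nat.Coprime)
    {ι : Type*} (S : Finset ι) (r : ι → ℕ)
    (hS : ∀ i ∈ S, 2 ≤ r i ∧ 6 * (r i * r i) ∣ L ∧ 42 * (r i * r i) ≤ L)
    (hSS : ∀ i ∈ S, ∀ j ∈ S, i ≠ j → 6 * (r i * r i * (r j * r j)) ≤ L)
    (hSc : ∑ i ∈ S, (r i - 1) ≤ c - 2)
    (hle : U ≤ 1 + 2 * ∑ m ∈ MX, (m - 1) + ∑ i ∈ S, (r i * r i - 1)) : L = 60 ∨ L = 168 := by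
  classical
  set R := MX.filter fun m => 3 * (m * m) ≤ L with hR
  set E := MX.filter fun m => ¬ 3 * (m * m) ≤ L with hE
  have hsplit : ∑ m ∈ R, (m - 1) + ∑ m ∈ E, (m - 1) = ∑ m ∈ MX, (m - 1) :=
    Finset.sum_filter_add_sum_filter_not _ _ _
  have hEprop : ∀ m ∈ E, 4 ∣ m ∧ 64 ≤ m ∧ 15 * m ∣ L ∧ 105 * m ≤ L := fun m hm =>
    ((hX m (Finset.mem_filter.1 hm).1).2.2.2).resolve_left (Finset.mem_filter.1 hm).2
  have hE1 : E.card ≤ 1 := Finset.card_le_one.2 fun m hm m' hm' => by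
    by_contra hne
    have h := hcop (Finset.mem_filter.1 hm).1 (Finset.mem_filter.1 hm').1 hne
    have := Nat.eq_one_of_dvd_coprimes h ((Nat.dvd_trans (by norm_num : 2 ∣ 4) (hEprop m hm).1))
      ((Nat.dvd_trans (by norm_num : 2 ∣ 4) (hEprop m' hm').1))
    omega
  have hEsum : ∀ B : ℕ, (∀ m ∈ E, m - 1 ≤ B) → ∑ m ∈ E, (m - 1) ≤ B := fun B hB =>
    (Finset.sum_le_card_nsmul E _ B hB).trans (by
      rw [smul_eq_mul]; exact le_trans (Nat.mul_le_mul_right B hE1) (one_mul B).le)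
  have hsq : ∀ i ∈ S, r i * r i - 1 = (r i + 1) * (r i - 1) := fun i _ => by
    rw [← Nat.mul_self_sub_mul_self_eq, one_mul]
  by_cases hB : L ≤ 60000
  · by_contra hcon
    push Not at hcon
    have hok := ok_of_params hd hd4 ha4 ha hc hc2 hc3 hL hdd hdeg hB
    simp only [ok, Bool.or_eq_true, beq_iff_eq, Nat.blt_eq, hcon.1, hcon.2, false_or] at hok
    have hRx : ∑ m ∈ R, (m - 1) ≤ xSum L := by
      have e : xSum L = ∑ m ∈ Finset.range 142,
          (if m % 3 = 1 ∧ 3 * (m * m) ≤ L ∧ L % (3 * m) = 0 then m - 1 else 0) := rfl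
      rw [e, ← Finset.sum_filter]
      refine Finset.sum_le_sum_of_subset fun m hm => ?_
      obtain ⟨hm1, hm2⟩ := Finset.mem_filter.1 hm
      obtain ⟨-, h3, h4, -⟩ := hX m hm1
      refine Finset.mem_filter.2 ⟨Finset.mem_range.2 ?_, h3, hm2, Nat.mod_eq_zero_of_dvd h4⟩
      nlinarith
    have hEx : ∑ m ∈ E, (m - 1) ≤ eMax L := hEsum _ fun m hm => by
      obtain ⟨⟨j, rfl⟩, h64, h15, h105⟩ := hEprop m hm
      obtain ⟨-, h3, -, -⟩ := hX _ (Finset.mem_filter.1 hm).1
      refine le_foldl_max _ _ _ (Or.inr (List.mem_map.2 ⟨j, List.mem_range.2 (by omega), ?_⟩))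
      rw [if_pos ⟨h64, h3, Nat.mod_eq_zero_of_dvd (show 60 * j ∣ L by
        rw [show 60 * j = 15 * (4 * j) by ring]; exact h15)⟩]
    have hSx : ∑ i ∈ S, (r i * r i - 1) ≤ sMax L c := by
      rcases S.eq_empty_or_nonempty with hS0 | hne
      · simp [hS0]
      obtain ⟨i₁, hi₁, hmax⟩ := S.exists_max_image r hne
      have hmem : ∀ i ∈ S, r i ∈ sCand L := fun i hi => by
        obtain ⟨h2, h6, h42⟩ := hS i hi
        refine List.mem_filter.2 ⟨List.mem_range.2 (by nlinarith), ?_⟩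
        simp [h2, h42, Nat.mod_eq_zero_of_dvd h6]
      refine le_trans ?_ (le_foldl_max _ _ _ (Or.inr (List.mem_map.2 ⟨r i₁, hmem i₁ hi₁, rfl⟩)))
      rw [← Finset.add_sum_erase _ _ hi₁]
      refine Nat.add_le_add_left ?_ _
      calc ∑ i ∈ S.erase i₁, (r i * r i - 1) ≤ ∑ i ∈ S.erase i₁, (rp L (r i₁) + 1) * (r i - 1) := by
            refine Finset.sum_le_sum fun i hi => ?_
            obtain ⟨hne', hi⟩ := Finset.mem_erase.1 hi
            rw [hsq i hi]
            refine Nat.mul_le_mul_right _ (Nat.add_le_add_right ?_ _)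
            refine le_foldl_max _ _ _ (Or.inr (List.mem_filter.2 ⟨hmem i hi, ?_⟩))
            simp [hmax i hi, hSS i hi i₁ hi₁ hne']
        _ ≤ _ := by
            rw [← Finset.mul_sum]
            refine Nat.mul_le_mul_left _ ?_
            rw [← Finset.add_sum_erase _ _ hi₁] at hSc
            omega
    have hUle : U ≤ 1 + 2 * (xSum L + eMax L) + sMax L c := by omega
    have := Nat.mul_le_mul_left (9 * (d * (d + 1))) hUle
    omega
  exfalso
  obtain ⟨q, hq⟩ := ha4
  rw [abs_lt] at ha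
  -- the bound on `c`
  have hc4 : 3 * (c * c) < 4 * L := by
    by_contra hge
    have h2 : ((d : ℤ) - a) ^ 2 < 4 * ((d : ℤ) * d) := by
      have h : ((d : ℤ) - a) * ((d : ℤ) - a) < (2 * d) * (2 * d) :=
        mul_lt_mul (by omega) (by omega) (by omega) (by omega)
      linear_combination h
    have h3 : (4 : ℤ) * L ≤ 3 * ((c : ℤ) * c) := by exact_mod_cast Nat.not_lt.1 hge
    have h5 : (0 : ℤ) < L := by omega
    have h6 := mul_lt_mul_of_pos_left h2 h5
    have h7 : 4 * (L : ℤ) * ((d : ℤ) * (d + 1)) ≤ 3 * ((c : ℤ) * c) * ((d : ℤ) * (d + 1)) :=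
      mul_le_mul_of_nonneg_right h3 (by positivity)
    have h8 : (L : ℤ) * (4 * ((d : ℤ) * d)) ≤ 4 * (L : ℤ) * ((d : ℤ) * (d + 1)) := by
      have : (0 : ℤ) ≤ L * d := by positivity
      linear_combination 4 * this
    have h9 : (L : ℤ) * ((d : ℤ) - a) ^ 2 = 3 * ((c : ℤ) * c) * ((d : ℤ) * (d + 1)) := by
      linear_combination hL
    linarith
  set s := Nat.sqrt (L / 3) with hs
  have hs2 : 3 * (s * s) ≤ L := by
    have h := Nat.sqrt_le (L / 3)
    rw [← hs] at h
    omega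
  have hRs : ∑ m ∈ R, (m - 1) ≤ 3 * s := by
    refine sum_le_three s _ R.1 rfl (fun m hm => ?_) ?_
    · obtain ⟨hm1, hm2⟩ := Finset.mem_filter.1 hm
      exact ⟨by have := (hX m hm1).1; omega, Nat.le_sqrt.2 (by omega)⟩
    · have hdvd : ∀ T : Finset ℕ, T ⊆ R → ∏ m ∈ T, m ∣ L / 3 := by
        intro T
        induction T using Finset.induction_on with
        | empty => intro; simp
        | insert m T hm ih =>
          intro hT
          rw [Finset.prod_insert hm]
          refine Nat.Coprime.mul_dvd_of_dvd_of_dvd ?_ ?_ (ih ((Finset.subset_insert _ _).trans hT))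
          · exact Nat.Coprime.prod_right fun m' hm' =>
              hcop (Finset.mem_filter.1 (hT (Finset.mem_insert_self _ _))).1
                (Finset.mem_filter.1 (hT (Finset.mem_insert_of_mem hm'))).1 (fun e => hm (e ▸ hm'))
          · exact Nat.dvd_div_of_mul_dvd (hX m (Finset.mem_filter.1 (hT (Finset.mem_insert_self _ _))).1).2.2.1
      have hdvd := hdvd R (Finset.Subset.refl _)
      have h1 := Nat.le_of_dvd (by omega) hdvd
      have h2 := Nat.lt_succ_sqrt (L / 3)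
      rw [Finset.prod_eq_multiset_prod, Multiset.map_id'] at h1
      exact lt_of_le_of_lt h1 h2
  have hEs : ∑ m ∈ E, (m - 1) ≤ L / 105 := hEsum _ fun m hm => by
    have := (hEprop m hm).2.2.2; omega
  obtain ⟨A, R', hA, hR', hSb⟩ : ∃ A R' : ℕ, 42 * A ≤ L ∧ 6 * (R' * R' * (R' * R')) ≤ L ∧
      ∑ i ∈ S, (r i * r i - 1) ≤ A + (R' + 1) * c := by
    rcases S.eq_empty_or_nonempty with hS0 | hne
    · exact ⟨0, 0, by simp, by simp, by simp [hS0]⟩
    obtain ⟨i₁, hi₁, hmax⟩ := S.exists_max_image r hne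
    refine ⟨r i₁ * r i₁, (S.erase i₁).sup r, (hS i₁ hi₁).2.2, ?_, ?_⟩
    · rcases (S.erase i₁).eq_empty_or_nonempty with h0 | hne'
      · simp [h0]
      obtain ⟨j, hj, hje⟩ := Finset.exists_mem_eq_sup _ hne' r
      rw [hje]
      obtain ⟨hne'', hjS⟩ := Finset.mem_erase.1 hj
      refine le_trans ?_ (hSS j hjS i₁ hi₁ hne'')
      gcongr <;> exact hmax j hjS
    rw [← Finset.add_sum_erase _ _ hi₁]
    refine Nat.add_le_add (Nat.sub_le _ _) ?_
    calc ∑ i ∈ S.erase i₁, (r i * r i - 1) ≤ ∑ i ∈ S.erase i₁, ((S.erase i₁).sup r + 1) * (r i - 1) := by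
          refine Finset.sum_le_sum fun i hi => ?_
          rw [hsq i (Finset.mem_erase.1 hi).2]
          exact Nat.mul_le_mul_right _ (Nat.add_le_add_right (Finset.le_sup (f := r) hi) _)
      _ ≤ _ := by
          rw [← Finset.mul_sum]
          refine Nat.mul_le_mul_left _ ?_
          have := Finset.sum_le_sum_of_subset (f := fun i => r i - 1) (Finset.erase_subset i₁ S)
          omega
  have hsL : 423 * s ≤ L := by
    by_contra hgt
    have h1 : L * L < (423 * s) * (423 * s) := Nat.mul_lt_mul'' (by omega) (by omega)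
    have h2 : 60001 * L ≤ L * L := Nat.mul_le_mul_right _ (by omega)
    linarith
  have hcL : 211 * c ≤ L := by
    by_contra hgt
    have h1 : L * L < (211 * c) * (211 * c) := Nat.mul_lt_mul'' (by omega) (by omega)
    have h2 : 60001 * L ≤ L * L := Nat.mul_le_mul_right _ (by omega)
    linarith
  have hRc : 21 * (R' * c) ≤ L := by
    by_contra hgt
    have h1 : L * L < (21 * (R' * c)) * (21 * (R' * c)) := Nat.mul_lt_mul'' (by omega) (by omega)
    have h2 : (L * L) * (L * L) < (21 * (R' * c)) * (21 * (R' * c)) * ((21 * (R' * c)) * (21 * (R' * c))) :=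
      Nat.mul_lt_mul'' h1 h1
    have h3 : (6 * (R' * R' * (R' * R'))) * ((3 * (c * c)) * (3 * (c * c))) ≤ L * ((4 * L) * (4 * L)) :=
      Nat.mul_le_mul hR' (Nat.mul_le_mul hc4.le hc4.le)
    have h4 : 57625 * (L * (L * L)) ≤ L * (L * (L * L)) := Nat.mul_le_mul_right _ (by omega)
    ring_nf at h2 h3 h4
    have h5 : 0 ≤ L ^ 3 := Nat.zero_le _
    linarith
  have hU9 : 9 * U ≤ L := by
    have : (R' + 1) * c = R' * c + c := by ring
    omega
  have h1 : 9 * (d * (d + 1)) * U ≤ d * (d + 1) * L := by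
    calc 9 * (d * (d + 1)) * U = d * (d + 1) * (9 * U) := by ring
      _ ≤ _ := Nat.mul_le_mul_left _ hU9
  rw [hU] at h1
  nlinarith

end Cfsg.Agent.SelfThree.Arith
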