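import Cfsg.Agent.Lib.SelfThree.Invariant
import Cfsg.Agent.Lib.SelfThree.Arith
import Cfsg.Agent.Lib.PrimeBlock.Tools
import Cfsg.Agent.Lib.PrimeBlock.Integer
import Cfsg.Agent.Lib.Characters.Counting

/-!
# Simple groups with a self-centralizing element of order three
-/

set_option autoImplicit false
set_option linter.style.haveILetI false
set_option linter.unusedSectionVars false

namespace Cfsg.Agent.SelfThree

open Subgroup Cfsg.Agent.Characters Cfsg.Agent.Blocks
open scoped ComplexConjugate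

universe u

variable {G : Type u} [Group G] [Finite G]

theorem card_centralizer_of_isConj {a b : G} (h : IsConj a b) :
    Nat.card (centralizer ({a} : Set G)) = Nat.card (centralizer ({b} : Set G)) := by
  have h1 := card_carrier_mul_card_centralizer a
  have h2 := card_carrier_mul_card_centralizer b
  rw [ConjClasses.mk_eq_mk_iff_isConj.2 h, ← h2] at h1
  haveI : Nonempty (ConjClasses.mk b).carrier := ⟨⟨b, ConjClasses.mem_carrier_mk⟩⟩
  exact Nat.eq_of_mul_eq_mul_left Nat.card_pos h1

/-- The class multiplication constant. -/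
theorem class_constant [Fintype (Cfsg.IrrCharacter G)] (a b g : G) :
    (Nat.card {p : G × G // IsConj a p.1 ∧ IsConj b p.2 ∧ p.1 * p.2 = g} : ℂ) *
      (Nat.card (centralizer ({a} : Set G)) : ℂ) * (Nat.card (centralizer ({b} : Set G)) : ℂ) =
    (Nat.card G : ℂ) * ∑ χ : Cfsg.IrrCharacter G,
      (χ : G → ℂ) a * (χ : G → ℂ) b * conj ((χ : G → ℂ) g) / (χ : G → ℂ) 1 := by
  classical
  haveI := Fintype.ofFinite G
  let T := {p : G × G // p.1 * a * p.1⁻¹ * (p.2 * b * p.2⁻¹) = g}
  have h1 : Nat.card T = Nat.card {p : G × G // IsConj a p.1 ∧ IsConj b p.2 ∧ p.1 * p.2 = g} *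
      (Nat.card (centralizer ({a} : Set G)) * Nat.card (centralizer ({b} : Set G))) := by
    let e : T ≃ Σ q : {p : G × G // IsConj a p.1 ∧ IsConj b p.2 ∧ p.1 * p.2 = g},
        {h : G // h * a * h⁻¹ = q.1.1} × {k : G // k * b * k⁻¹ = q.1.2} :=
      { toFun := fun p => ⟨⟨(p.1.1 * a * p.1.1⁻¹, p.1.2 * b * p.1.2⁻¹),
          isConj_iff.2 ⟨_, rfl⟩, isConj_iff.2 ⟨_, rfl⟩, p.2⟩, ⟨p.1.1, rfl⟩, ⟨p.1.2, rfl⟩⟩
        invFun := fun q => ⟨(q.2.1.1, q.2.2.1), by rw [q.2.1.2, q.2.2.2]; exact q.1.2.2.2⟩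
        left_inv := fun p => rfl
        right_inv := by
          rintro ⟨⟨⟨y, z⟩, hy, hz, e⟩, ⟨h, h'⟩, ⟨k, k'⟩⟩
          change h * a * h⁻¹ = y at h'
          change k * b * k⁻¹ = z at k'
          subst h' k'
          rfl }
    haveI := Fintype.ofFinite {p : G × G // IsConj a p.1 ∧ IsConj b p.2 ∧ p.1 * p.2 = g}
    rw [Nat.card_congr e, Nat.card_sigma, Finset.sum_congr rfl fun q _ => by
      rw [Nat.card_prod, SmallSimple.Basic.card_conjugating_eq_centralizer q.2.1,
        SmallSimple.Basic.card_conjugating_eq_centralizer q.2.2.1], Finset.sum_const, smul_eq_mul,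
      Finset.card_univ, ← Nat.card_eq_fintype_card]
  have h2 : Nat.card T = ∑ s : G, Nat.card {h : G // h * (a * (s * b * s⁻¹)) * h⁻¹ = g} := by
    rw [← Nat.card_sigma]
    refine Nat.card_congr
      { toFun := fun p => ⟨p.1.1⁻¹ * p.1.2, p.1.1, ?_⟩
        invFun := fun q => ⟨(q.2.1, q.2.1 * q.1), ?_⟩
        left_inv := fun p => ?_
        right_inv := fun q => ?_ }
    · exact Eq.trans (b := p.1.1 * a * p.1.1⁻¹ * (p.1.2 * b * p.1.2⁻¹)) (by group) p.2
    · exact Eq.trans (b := q.2.1 * (a * (q.1 * b * q.1⁻¹)) * (q.2.1 : G)⁻¹) (by group) q.2.2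
    · exact Subtype.ext (Prod.ext rfl (mul_inv_cancel_left _ _))
    · obtain ⟨s, h, e⟩ := q
      exact Sigma.subtype_ext (inv_mul_cancel_left h s) rfl
  have h3 : ∀ s : G, (Nat.card {h : G // h * (a * (s * b * s⁻¹)) * h⁻¹ = g} : ℂ) =
      ∑ χ : Cfsg.IrrCharacter G, (χ : G → ℂ) (a * (s * b * s⁻¹)) * conj ((χ : G → ℂ) g) := by
    intro s
    rw [second_orthogonality]
    split_ifs with h
    · rw [SmallSimple.Basic.card_conjugating_eq_centralizer h, card_centralizer_of_isConj h]
    · rw [Nat.cast_eq_zero, Nat.card_eq_zero]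
      exact Or.inl ⟨fun q => h (isConj_iff.2 ⟨q.1, q.2⟩)⟩
  rw [mul_assoc, ← Nat.cast_mul, ← Nat.cast_mul, ← h1, h2, Nat.cast_sum,
    Finset.sum_congr rfl fun s _ => h3 s, Finset.sum_comm, Finset.mul_sum]
  refine Finset.sum_congr rfl fun χ _ => ?_
  rw [← Finset.sum_mul, sum_mul_conjugates χ.2]
  ring

variable {x t : G} (hx : Self x)
include hx

theorem Self.centralizer_eq : centralizer ({x} : Set G) = zpowers x :=
  le_antisymm (fun g hg => hx.cent g (mem_centralizer_singleton_iff.1 hg).symm)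
    (zpowers_le.2 (mem_centralizer_singleton_iff.2 rfl))

theorem Self.card_cent : Nat.card (centralizer ({x} : Set G)) = 3 := by
  rw [hx.centralizer_eq, Nat.card_zpowers, hx.order]

variable [IsSimpleGroup G] (hG : ¬ IsMulCommutative G)
include hG

/-- The numerical data of the principal block at three. -/
theorem Self.block_data (ht : t * x * t⁻¹ = x⁻¹) :
    ∃ (d : ℕ) (a : ℤ), d % 3 = 1 ∧ 4 ≤ d ∧ (4 : ℤ) ∣ d - a ∧ |a| < d ∧
      a ^ 2 + (a + 1) ^ 2 + 1 ≤ (Nat.card (centralizer ({t} : Set G)) : ℤ) ∧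
      (Nat.card G : ℤ) * (d - a) ^ 2 = 3 * (Nat.card (centralizer ({t} : Set G)) : ℤ) ^ 2 * d * (d + 1) ∧
      d * (d + 1) ∣ Nat.card G ∧ 1 + d * d + (d + 1) * (d + 1) ≤ Nat.card G ∧
      9 * (d * (d + 1)) * Nat.card {p : G × G // IsConj x p.1 ∧ IsConj x p.2 ∧ p.1 * p.2 = x} =
        Nat.card G * (d * d + d + 1) := by
  classical
  haveI : Fact (Nat.Prime 3) := ⟨Nat.prime_three⟩
  haveI := Fintype.ofFinite (Cfsg.IrrCharacter G)
  obtain ⟨P, hP⟩ := (IsPGroup.of_card (n := 1) (by rw [Nat.card_zpowers, hx.order, pow_one]) :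
    IsPGroup 3 (zpowers x)).exists_le_sylow
  have hP3 := hx.coe_sylow P
  have hPe : (P : Subgroup G) = zpowers x := (eq_of_le_of_card_ge hP (by
    rw [hP3, Nat.card_zpowers, hx.order])).symm
  obtain ⟨D, htX, hts⟩ := PrimeBlock.exists_pblock' hG (by norm_num : (3 : ℕ) ≠ 2) P hP3
  have hxP : x ∈ (P : Subgroup G) := hP (mem_zpowers x)
  have hx1 := hx.ne_one
  have hC3 : Nat.card (centralizer ((P : Subgroup G) : Set G)) = 3 := by
    rw [← D.centralizer_eq hxP hx1, hx.card_cent]
  have he : D.e = 2 := by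
    have h1 := D.e_dvd
    have h2 : D.e ≠ 1 := fun e => by
      have := D.he
      rw [e, relIndex_eq_one] at this
      have htN : t ∈ normalizer ((P : Subgroup G) : Set G) := by
        rw [hPe]
        refine mem_normalizer_iff.2 fun g => ?_
        have key : ∀ g : G, g ∈ zpowers x → t * g * t⁻¹ ∈ zpowers x := by
          rintro _ ⟨k, rfl⟩
          exact ⟨-k, by simp only [← conj_zpow, ht, zpow_neg, inv_zpow]⟩
        refine ⟨key g, fun hg => ?_⟩
        have := key _ hg
        rwa [show t * (t * g * t⁻¹) * t⁻¹ = g by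
          calc t * (t * g * t⁻¹) * t⁻¹ = (t * t) * g * (t * t)⁻¹ := by group
            _ = g := by rw [hx.sq_eq_one ht]; group] at this
      have htc := mem_centralizer_iff.1 (this htN) x hxP
      have htz := hx.cent t htc
      have h2 := hx.inverter_order ht
      rcases hx.mem_zpowers_iff.1 htz with e | e | e
      · exact hx.inverter_ne_one ht e
      · rw [e, hx.order] at h2; omega
      · rw [e, orderOf_inv, hx.order] at h2; omega
    have := Nat.le_of_dvd (by norm_num) h1
    have := D.e_pos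
    omega
  obtain ⟨θ, hY⟩ : ∃ θ, D.Y = {θ} := Finset.card_eq_one.1 (by rw [D.card_Y, he])
  obtain ⟨χ, hX, hχt⟩ : ∃ χ, D.X = {trivIrr G, χ} ∧ χ ≠ trivIrr G := by
    have hc : (D.X.erase (trivIrr G)).card = 1 := by rw [Finset.card_erase_of_mem htX, D.card_X, he]
    obtain ⟨χ, hχ⟩ := Finset.card_eq_one.1 hc
    have hne : χ ≠ trivIrr G := (Finset.mem_erase.1 (hχ.ge (Finset.mem_singleton_self χ))).1
    exact ⟨χ, by rw [← Finset.insert_erase htX, hχ], hne⟩
  have hχX : χ ∈ D.X := by rw [hX]; simp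
  have hθY : θ ∈ D.Y := by rw [hY]; simp
  have hθt : θ ≠ trivIrr G := fun e => Finset.disjoint_left.1 D.disj htX (e ▸ hθY)
  have hθχ : θ ≠ χ := fun e => Finset.disjoint_left.1 D.disj hχX (e ▸ hθY)
  have hrel1 := D.rel_one hθY
  have hd1 : ∀ ψ, ψ ≠ trivIrr G → 2 ≤ PrimeBlock.deg ψ := fun ψ h => by
    have h0 : 0 < PrimeBlock.deg ψ := charDegree_pos ψ
    have h1 := PrimeBlock.deg_ne_one hG h
    omega
  rw [hX, Finset.sum_insert (by simp [Ne.symm hχt]), Finset.sum_singleton, hts, PrimeBlock.deg_trivIrr] at hrel1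
  have hxθ := D.sum_Y hxP hx1
  rw [hY, Finset.sum_singleton] at hxθ
  have hxχ := D.val_X' hχX hxP hx1
  have hreg : ∀ g : G, ¬ 3 ∣ orderOf g →
      (D.ε : ℂ) * (θ : G → ℂ) g = 1 + (D.sgn χ : ℂ) * (χ : G → ℂ) g := fun g hg => by
    rw [D.rel θ hθY g hg, hX, Finset.sum_insert (by simp [Ne.symm hχt]), Finset.sum_singleton, hts,
      trivIrr_coe]
    simp
  have hdX := D.deg_X χ hχX
  have hdθ := hd1 θ hθt
  have hdχ := hd1 χ hχt
  -- the character of smaller degree
  obtain ⟨ψ, φ, hψt, hφt, hψφ, hblock, hψx, hφx, hdeg, hregt, hmod⟩ : ∃ ψ φ : Cfsg.IrrCharacter G,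
      ψ ≠ trivIrr G ∧ φ ≠ trivIrr G ∧ ψ ≠ φ ∧
      (∀ η, η ∈ Cfsg.principalBlock D.M G → η = trivIrr G ∨ η = ψ ∨ η = φ) ∧
      (ψ : G → ℂ) x = 1 ∧ (φ : G → ℂ) x = -1 ∧ PrimeBlock.deg φ = PrimeBlock.deg ψ + 1 ∧
      (∀ g : G, ¬ 3 ∣ orderOf g → (φ : G → ℂ) g = 1 + (ψ : G → ℂ) g) ∧ PrimeBlock.deg ψ % 3 = 1 := by
    have hmem : ∀ η, η ∈ Cfsg.principalBlock D.M G → η = trivIrr G ∨ η = χ ∨ η = θ := fun η hη => by
      rcases (D.mem_block η).1 hη with h | h
      · rw [hX, Finset.mem_insert, Finset.mem_singleton] at h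
        tauto
      · rw [hY, Finset.mem_singleton] at h
        exact Or.inr (Or.inr h)
    rcases D.ε_eq with hε | hε <;> rcases D.sgn_eq χ hχX with hs | hs <;> rw [hε, hs] at hrel1 <;>
      push_cast at hrel1
    · refine ⟨χ, θ, hχt, hθt, Ne.symm hθχ, hmem, by rw [hxχ, hs]; norm_num, by rw [hxθ, hε]; norm_num,
        by omega, fun g hg => ?_, ?_⟩
      · have := hreg g hg
        rw [hε, hs] at this
        push_cast at this
        linear_combination this
      · rw [hs] at hdX
        have := Int.modEq_iff_dvd.1 hdX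
        omega
    · omega
    · omega
    · refine ⟨θ, χ, hθt, hχt, hθχ, fun η hη => by have := hmem η hη; tauto, by rw [hxθ, hε]; norm_num,
        by rw [hxχ, hs]; norm_num, by omega, fun g hg => ?_, ?_⟩
      · have := hreg g hg
        rw [hε, hs] at this
        push_cast at this
        linear_combination this
      · rw [hs] at hdX
        have := Int.modEq_iff_dvd.1 hdX
        omega
  set d := PrimeBlock.deg ψ with hd
  have h2 := hx.inverter_order ht
  have ht3 : ¬ 3 ∣ orderOf t := by rw [h2]; norm_num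
  obtain ⟨a, ha, ha4, haabs⟩ := PrimeBlock.involution_value hG hψt h2
  have hφa : (φ : G → ℂ) t = ((1 + a : ℤ) : ℂ) := by rw [hregt t ht3, ha]; push_cast; ring
  have hzero : ∀ η : Cfsg.IrrCharacter G, η ∉ ({trivIrr G, ψ, φ} : Finset (Cfsg.IrrCharacter G)) →
      (η : G → ℂ) x = 0 := fun η hη => D.eq_zero_of_notMem hC3 (fun h => hη (by
        simp only [Finset.mem_insert, Finset.mem_singleton]; exact hblock η h)) hxP hx1
  have hsum3 : ∀ f : Cfsg.IrrCharacter G → ℂ, ∑ η ∈ ({trivIrr G, ψ, φ} : Finset _), f η =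
      f (trivIrr G) + f ψ + f φ := fun f => by
    rw [Finset.sum_insert (by simp [Ne.symm hψt, Ne.symm hφt]), Finset.sum_insert (by simp [hψφ]),
      Finset.sum_singleton, add_assoc]
  have hred : ∀ f : Cfsg.IrrCharacter G → ℂ, (∀ η : Cfsg.IrrCharacter G, (η : G → ℂ) x = 0 → f η = 0) →
      ∑ η : Cfsg.IrrCharacter G, f η = f (trivIrr G) + f ψ + f φ := fun f hf => by
    rw [← hsum3]
    exact (Finset.sum_subset (Finset.subset_univ _) fun η _ hη => hf η (hzero η hη)).symm
  have hd0 : (d : ℂ) ≠ 0 := by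
    have := hd1 ψ hψt
    exact Nat.cast_ne_zero.2 (by omega)
  have hd10 : (d : ℂ) + 1 ≠ 0 := by exact_mod_cast Nat.succ_ne_zero d
  have hψ1 : (ψ : G → ℂ) 1 = (d : ℂ) := (PrimeBlock.deg_cast ψ).symm
  have hφ1 : (φ : G → ℂ) 1 = (d : ℂ) + 1 := by rw [← PrimeBlock.deg_cast, hdeg]; push_cast; rfl
  set c := Nat.card (centralizer ({t} : Set G)) with hc
  refine ⟨d, a, hmod, by have := hd1 ψ hψt; omega, ha4, haabs, ?_, ?_, ?_, ?_, ?_⟩
  · -- second orthogonality at `t`
    have h := second_orthogonality (G := G) t t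
    rw [if_pos (IsConj.refl t), ← hc] at h
    have hre := congrArg Complex.re h
    rw [Complex.re_sum] at hre
    simp only [Complex.mul_conj, Complex.ofReal_re, Complex.natCast_re] at hre
    have hle : ∑ η ∈ ({trivIrr G, ψ, φ} : Finset (Cfsg.IrrCharacter G)), Complex.normSq ((η : G → ℂ) t) ≤
        (c : ℝ) := by
      rw [← hre]
      exact Finset.sum_le_sum_of_subset_of_nonneg (Finset.subset_univ _) fun η _ _ => Complex.normSq_nonneg _
    rw [Finset.sum_insert (by simp [Ne.symm hψt, Ne.symm hφt]), Finset.sum_insert (by simp [hψφ]),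
      Finset.sum_singleton, trivIrr_coe, ha, hφa] at hle
    simp only [map_one, Complex.normSq_intCast] at hle
    have : ((a ^ 2 + (a + 1) ^ 2 + 1 : ℤ) : ℝ) ≤ ((c : ℤ) : ℝ) := by push_cast at hle ⊢; linarith
    exact_mod_cast this
  · have h := class_constant t t x
    rw [← hc, hred _ (fun η hη => by rw [hη]; simp), trivIrr_coe, ha, hφa, hψx, hφx, hψ1, hφ1] at h
    have hcount : Nat.card {p : G × G // IsConj t p.1 ∧ IsConj t p.2 ∧ p.1 * p.2 = x} = 3 := by
      have hinv : ∀ y : G, y * x * y⁻¹ = x⁻¹ → IsConj t y := by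
        intro y hy
        have h1 : x * (t⁻¹ * y) = t⁻¹ * y * x := by
          have e : t⁻¹ * x⁻¹ * t = x := by rw [← ht]; group
          calc x * (t⁻¹ * y) = (t⁻¹ * x⁻¹ * t) * (t⁻¹ * y) := by rw [e]
            _ = t⁻¹ * (y * x * y⁻¹) * y := by rw [hy]; group
            _ = _ := by group
        have hz := hx.cent _ h1
        set z := t⁻¹ * y with hzdef
        have hyz : y = t * z := by rw [hzdef]; group
        refine isConj_iff.2 ?_
        rcases hx.mem_zpowers_iff.1 hz with e | e | e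
        · exact ⟨1, by rw [hyz, e]; group⟩
        · refine ⟨x, ?_⟩
          have h2 : x * t = t * x⁻¹ := by
            calc x * t = (t * x * t⁻¹)⁻¹ * t := by rw [ht, inv_inv]
              _ = _ := by group
          rw [hyz, e, h2, mul_assoc, ← pow_two, inv_pow, pow_two, hx.mul_self, inv_inv]
        · refine ⟨x⁻¹, ?_⟩
          have h2 : x⁻¹ * t = t * x := by
            calc x⁻¹ * t = t * x * t⁻¹ * t := by rw [ht]
              _ = _ := by group
          rw [hyz, e, h2, inv_inv, mul_assoc, hx.mul_self]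
      have hxc : IsConj x x⁻¹ := isConj_iff.2 ⟨t, ht⟩
      rw [← hx.card_cent, ← SmallSimple.Basic.card_conjugating_eq_centralizer hxc]
      refine Nat.card_congr
        { toFun := fun p => ⟨p.1.1, ?_⟩
          invFun := fun y => ⟨(y.1, y.1⁻¹ * x), hinv _ y.2, hinv _ ?_, mul_inv_cancel_left _ _⟩
          left_inv := fun p => ?_
          right_inv := fun y => rfl }
      · obtain ⟨⟨y, z⟩, hy, hz, rfl⟩ := p
        obtain ⟨g, rfl⟩ := isConj_iff.1 hy
        obtain ⟨k, rfl⟩ := isConj_iff.1 hz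
        have ht2 : t * t = 1 := hx.sq_eq_one ht
        have hti : t⁻¹ = t := inv_eq_of_mul_eq_one_left ht2
        calc g * t * g⁻¹ * (g * t * g⁻¹ * (k * t * k⁻¹)) * (g * t * g⁻¹)⁻¹
            = g * (t * t) * g⁻¹ * (k * t * k⁻¹) * (g * t⁻¹ * g⁻¹) := by group
          _ = k * t⁻¹ * k⁻¹ * (g * t⁻¹ * g⁻¹) := by rw [ht2, hti]; group
          _ = _ := by group
      · rw [show y.1⁻¹ * x * x * (y.1⁻¹ * x)⁻¹ = y.1⁻¹ * x * y.1 by group]
        obtain ⟨y, hy⟩ := y
        calc y⁻¹ * x * y = (y⁻¹ * x⁻¹ * y)⁻¹ := by group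
          _ = (y⁻¹ * (y * x * y⁻¹) * y)⁻¹ := by rw [hy]
          _ = x⁻¹ := by group
      · obtain ⟨⟨y, z⟩, hy, hz, e⟩ := p
        refine Subtype.ext (Prod.ext rfl ?_)
        change y⁻¹ * x = z
        rw [← e]; group
    rw [hcount] at h
    have hC : ((Nat.card G : ℤ) : ℂ) * (((d : ℤ) - a) ^ 2 : ℤ) =
        ((3 * (c : ℤ) ^ 2 * d * (d + 1) : ℤ) : ℂ) := by
      simp only [map_one, map_neg] at h
      push_cast at h ⊢
      field_simp at h
      linear_combination -h
    exact_mod_cast hC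
  · have hdv : ∀ η : Cfsg.IrrCharacter G, PrimeBlock.deg η ∣ Nat.card G := fun η => by
      obtain ⟨n, hn, -, hdv⟩ := irr_degree_dvd_card η.2
      rw [← PrimeBlock.deg_cast] at hn
      rwa [Nat.cast_injective hn]
    exact Nat.Coprime.mul_dvd_of_dvd_of_dvd (by simp) (hdv ψ) (hdeg ▸ hdv φ)
  · have h := sum_degree_sq (G := G)
    have h' : ∑ η : Cfsg.IrrCharacter G, PrimeBlock.deg η * PrimeBlock.deg η = Nat.card G := by
      apply Nat.cast_injective (R := ℂ)
      rw [Nat.cast_sum, ← h]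
      exact Finset.sum_congr rfl fun η _ => by rw [Nat.cast_mul, PrimeBlock.deg_cast]; ring
    rw [← h']
    refine le_trans (le_of_eq ?_) (Finset.sum_le_sum_of_subset (Finset.subset_univ {trivIrr G, ψ, φ}))
    rw [Finset.sum_insert (by simp [Ne.symm hψt, Ne.symm hφt]), Finset.sum_insert (by simp [hψφ]),
      Finset.sum_singleton, PrimeBlock.deg_trivIrr, hdeg]
    ring
  · have h := class_constant x x x
    rw [hx.card_cent, hred _ (fun η hη => by rw [hη]; simp), trivIrr_coe, hψx, hφx, hψ1, hφ1] at h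
    simp only [map_one, map_neg] at h
    field_simp at h
    apply Nat.cast_injective (R := ℂ)
    push_cast
    linear_combination h

omit hG in
/-- Pairs of conjugates of `x` with product `x` give invariant abelian subgroups. -/
theorem Self.pair_mem {y z : G} (hy : orderOf y = 3) (hz : orderOf z = 3) (hyz : y * z = x) :
    y * x = 1 ∨ ∃ L : Subgroup G, Inv x L ∧ ¬ 3 ∣ Nat.card L ∧ y * x ∈ L := by
  classical
  have hy' := hx.of_order hy
  have hz' := hx.of_order hz
  set a := y * x with ha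
  set b := x * y with hb
  have hzy : z = y⁻¹ * x := by rw [← hyz]; group
  have hcomm : a * b = b * a := by
    have h3 := hz'.mul_three
    rw [hzy] at h3
    have e : x * y⁻¹ * x = y * x⁻¹ * y := by
      calc x * y⁻¹ * x = y * (y⁻¹ * x * (y⁻¹ * x) * (y⁻¹ * x)) * (x⁻¹ * y) := by group
        _ = y * x⁻¹ * y := by rw [h3]; group
    calc a * b = y * (x * x) * y := by simp only [ha, hb]; group
      _ = x * y⁻¹ * x := by rw [hx.mul_self, e]
      _ = x * (y * y) * x := by rw [hy'.mul_self]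
      _ = _ := by simp only [ha, hb]; group
  set A := closure ({a, b} : Set G) with hA
  have hxb : x * b * x⁻¹ = a⁻¹ * b⁻¹ := by
    calc x * b * x⁻¹ = (x * x) * y * x⁻¹ := by simp only [hb]; group
      _ = x⁻¹ * y * x⁻¹ := by rw [hx.mul_self]
      _ = x⁻¹ * (y * y)⁻¹ * x⁻¹ := by rw [hy'.mul_self, inv_inv]
      _ = _ := by simp only [ha, hb]; group
  have hiA : Inv x A := by
    have hle : A.map (MulAut.conj x).toMonoidHom ≤ A := by
      rw [hA, MonoidHom.map_closure, closure_le]
      rintro _ ⟨w, hw, rfl⟩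
      rcases hw with rfl | rfl
      · change x * a * x⁻¹ ∈ A
        rw [show x * a * x⁻¹ = b by simp only [ha, hb]; group]
        exact subset_closure (Set.mem_insert_of_mem _ rfl)
      · change x * b * x⁻¹ ∈ A
        rw [hxb]
        exact mul_mem (inv_mem (subset_closure (Set.mem_insert _ _)))
          (inv_mem (subset_closure (Set.mem_insert_of_mem _ rfl)))
    have heq : A.map (MulAut.conj x).toMonoidHom = A :=
      eq_of_le_of_card_ge hle (card_map_of_injective (MulAut.conj x).injective).ge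
    refine mem_normalizer_iff.2 fun w => ⟨fun hw => heq.le ⟨w, hw, rfl⟩, fun hw => ?_⟩
    obtain ⟨j, hj, hjw⟩ := heq.ge hw
    exact (mul_left_cancel (mul_right_cancel (show x * j * x⁻¹ = x * w * x⁻¹ from hjw))) ▸ hj
  haveI : IsMulCommutative A := by
    refine isMulCommutative_closure ?_
    intro u hu v hv
    simp only [Set.mem_insert_iff, Set.mem_singleton_iff] at hu hv
    rcases hu with rfl | rfl <;> rcases hv with rfl | rfl
    exacts [rfl, hcomm, hcomm.symm, rfl]
  by_cases h3 : 3 ∣ Nat.card A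
  · left
    haveI : Fact (Nat.Prime 3) := ⟨Nat.prime_three⟩
    obtain ⟨⟨w, hw⟩, hwo⟩ := exists_prime_orderOf_dvd_card' (G := A) 3 h3
    rw [orderOf_mk] at hwo
    have hw' := hx.of_order hwo
    have hAle : ∀ u ∈ A, u ∈ zpowers w := fun u hu =>
      hw'.cent u (congrArg Subtype.val (mul_comm' (⟨w, hw⟩ : A) ⟨u, hu⟩))
    have hwx : w ∈ zpowers x := by
      refine hx.cent w ?_
      rcases hw'.mem_zpowers_iff.1 (hAle _ (hiA.conj_mem hw)) with e | e | e
      · exact absurd (conj_eq_one_iff.1 e) hw'.ne_one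
      · exact mul_inv_eq_iff_eq_mul.1 e
      · exfalso
        have h1 := hw'.inverter_order e
        rw [hx.order] at h1
        omega
    have hax : a ∈ zpowers x := zpowers_le.2 hwx (hAle a (subset_closure (Set.mem_insert _ _)))
    have hyx : y ∈ zpowers x := by
      have := mul_mem hax (inv_mem (mem_zpowers x))
      rwa [ha, mul_inv_cancel_right] at this
    rcases hx.mem_zpowers_iff.1 hyx with e | e | e
    · rw [e, orderOf_one] at hy; omega
    · rw [e] at hyz
      have : z = 1 := mul_left_cancel (hyz.trans (mul_one x).symm)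
      rw [this, orderOf_one] at hz; omega
    · rw [ha, e, inv_mul_cancel]
  · exact Or.inr ⟨A, hiA, h3, subset_closure (Set.mem_insert _ _)⟩

variable (hsh : ∀ H : Subgroup G, x ∈ H → H ≠ ⊤ → Shape H)
include hsh

/-- Conjugation by the inverting involution preserves maximal invariant subgroups. -/
theorem MaxInv.conj_t {M : Subgroup G} (hM : MaxInv x M) (ht : t * x * t⁻¹ = x⁻¹) :
    MaxInv x (M.map (MulAut.conj t).toMonoidHom) := by
  have key : ∀ L : Subgroup G, Inv x L → Inv x (L.map (MulAut.conj t).toMonoidHom) := fun L hL => by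
    have h := inv_map (f := (MulAut.conj t).toMonoidHom) (MulAut.conj t).surjective hL.inv
    have e : (MulAut.conj t).toMonoidHom x⁻¹ = x := by
      change t * x⁻¹ * t⁻¹ = x
      calc t * x⁻¹ * t⁻¹ = (t * x * t⁻¹)⁻¹ := by group
        _ = x := by rw [ht, inv_inv]
    rwa [e] at h
  have hback : ∀ L : Subgroup G,
      (L.map (MulAut.conj t).toMonoidHom).map (MulAut.conj t).toMonoidHom = L := fun L => by
    rw [Subgroup.map_map]
    convert Subgroup.map_id L
    ext g
    change t * (t * g * t⁻¹) * t⁻¹ = g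
    calc t * (t * g * t⁻¹) * t⁻¹ = (t * t) * g * (t * t)⁻¹ := by group
      _ = g := by rw [hx.sq_eq_one ht]; group
  refine ⟨key M hM.inv, by rw [card_map_of_injective (MulAut.conj t).injective]; exact hM.not3,
    fun L hi h3 hle => ?_⟩
  have h := hM.max _ (key L hi) (by rw [card_map_of_injective (MulAut.conj t).injective]; exact h3)
    (by rw [← hback M]; exact map_mono hle)
  rw [← hback L, h]

/-- The bound on the normalizers of two maximal invariant subgroups. -/
theorem MaxInv.card_mul_le {M M' : Subgroup G} (hM : MaxInv x M) (hM' : MaxInv x M') (hne : M ⊓ M' = ⊥) :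
    Nat.card (normalizer (M : Set G)) * Nat.card (normalizer (M' : Set G)) * Nat.card M ≤
      Nat.card G * Nat.card (normalizer (M : Set G)) := by
  set N := normalizer (M : Set G) with hN
  set N' := normalizer (M' : Set G) with hN'
  have h1 := card_mul_index N
  have h2 := card_mul_index N'
  have h3 := card_mul_index (N ⊓ N')
  have h4 : (N ⊓ N').index ≤ N.index * N'.index := index_inf_le
  -- `N ⊓ N'` is small
  have hI : M ⊓ N' = ⊥ := by
    refine le_bot_iff.1 (hne ▸ le_inf inf_le_left ?_)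
    refine hM'.le_of_normalizes ?_ (fun h => hM.not3 (h.trans (card_dvd_of_le inf_le_left))) inf_le_right
    refine mem_normalizer_iff.2 fun g => ⟨fun h => ⟨hM.inv.conj_mem h.1, N'.mul_mem (N'.mul_mem hM'.inv h.2) (N'.inv_mem hM'.inv)⟩,
      fun h => ⟨(mem_normalizer_iff.1 hM.inv g).2 h.1, ?_⟩⟩
    have := N'.mul_mem (N'.mul_mem (N'.inv_mem hM'.inv) h.2) hM'.inv
    simpa [mul_assoc] using this
  have h5 : Nat.card (N ⊓ N' : Subgroup G) * Nat.card M ≤ Nat.card N := by
    rw [← Nat.card_prod]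
    refine Nat.card_le_card_of_injective (fun p : (N ⊓ N' : Subgroup G) × M =>
      (⟨(p.1 : G) * p.2, N.mul_mem p.1.2.1 (le_normalizer p.2.2)⟩ : N)) ?_
    rintro ⟨u, v⟩ ⟨u', v'⟩ e
    have e' : (u : G) * v = u' * v' := congrArg Subtype.val e
    have h : (u' : G)⁻¹ * u ∈ M ⊓ N' := ⟨by
      have : (u' : G)⁻¹ * u = v' * (v : G)⁻¹ := by
        calc (u' : G)⁻¹ * u = (u' : G)⁻¹ * ((u : G) * v) * (v : G)⁻¹ := by group
          _ = _ := by rw [e']; group
      rw [this]; exact M.mul_mem v'.2 (M.inv_mem v.2), N'.mul_mem (N'.inv_mem u'.2.2) u.2.2⟩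
    rw [hI, mem_bot, inv_mul_eq_one] at h
    rw [← h] at e'
    exact Prod.ext (Subtype.ext h.symm) (Subtype.ext (mul_left_cancel e'))
  have h6 : Nat.card N * Nat.card N' ≤ Nat.card G * Nat.card (N ⊓ N' : Subgroup G) := by
    have hG0 : 0 < (N ⊓ N').index := Nat.pos_of_ne_zero index_ne_zero_of_finite
    refine Nat.le_of_mul_le_mul_right ?_ hG0
    calc Nat.card N * Nat.card N' * (N ⊓ N').index ≤ Nat.card N * Nat.card N' * (N.index * N'.index) :=
          Nat.mul_le_mul_left _ h4
      _ = Nat.card G * Nat.card G := by rw [mul_mul_mul_comm, h1, h2]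
      _ = _ := by rw [mul_assoc, h3]
  calc Nat.card N * Nat.card N' * Nat.card M ≤ Nat.card G * Nat.card (N ⊓ N' : Subgroup G) * Nat.card M :=
        Nat.mul_le_mul_right _ h6
    _ = Nat.card G * (Nat.card (N ⊓ N' : Subgroup G) * Nat.card M) := mul_assoc ..
    _ ≤ _ := Nat.mul_le_mul_left _ h5

/-- The index of the normalizer of a subgroup fixed by the involution. -/
theorem MaxInv.index_ge {M : Subgroup G} (hM : MaxInv x M) (hM1 : M ≠ ⊥) (ht : t * x * t⁻¹ = x⁻¹)
    (h6 : Nat.card (normalizer (M : Set G)) = 6 * Nat.card M) : 42 * Nat.card M ≤ Nat.card G := by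
  classical
  haveI : Fact (Nat.Prime 3) := ⟨Nat.prime_three⟩
  set N := normalizer (M : Set G) with hN
  haveI := Fintype.ofFinite (G ⧸ N)
  have hti := hM.inv_t hx hG hsh ht h6
  let σ : Function.End (G ⧸ N) := fun q => x • q
  have hσ : σ ^ 3 ^ 1 = 1 := by
    funext q
    change x • (x • (x • q)) = q
    rw [smul_smul, smul_smul, hx.mul_three, one_smul]
  have hmod := Equiv.Perm.card_fixedPoints_modEq hσ
  have hfix : ∀ q : G ⧸ N, x • q = q → q = ((1 : G) : G ⧸ N) := by
    intro q hq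
    obtain ⟨g, rfl⟩ := QuotientGroup.mk_surjective q
    have hgx : g⁻¹ * x * g ∈ N := by
      have := QuotientGroup.eq.1 (hq.symm : ((g : G) : G ⧸ N) = ((x * g : G) : G ⧸ N))
      simpa [mul_assoc] using this
    have hi : Inv x (M.map (MulAut.conj g).toMonoidHom) := by
      have := inv_map (f := (MulAut.conj g).toMonoidHom) (MulAut.conj g).surjective hgx
      rwa [show (MulAut.conj g).toMonoidHom (g⁻¹ * x * g) = x by simp [mul_assoc]] at this
    have hMt : M.map (MulAut.conj t).toMonoidHom = M := by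
      refine eq_of_le_of_card_ge ?_ (card_map_of_injective (MulAut.conj t).injective).ge
      rintro _ ⟨m, hm, rfl⟩; exact hti.conj_mem hm
    have hgM : M.map (MulAut.conj g).toMonoidHom = M := by
      rcases hM.conj_cases hx hG hsh ht hi with e | e
      exacts [e, e.trans hMt]
    refine (QuotientGroup.eq.2 ?_).symm
    rw [inv_one, one_mul]
    refine mem_normalizer_iff.2 fun k => ⟨fun hk => hgM.le ⟨k, hk, rfl⟩, fun hk => ?_⟩
    obtain ⟨j, hj, hjk⟩ := hgM.ge hk
    exact (mul_left_cancel (mul_right_cancel (show g * j * g⁻¹ = g * k * g⁻¹ from hjk))) ▸ hj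
  have h1 : Fintype.card (Function.fixedPoints σ) = 1 := Fintype.card_eq_one_iff.2
    ⟨⟨((1 : G) : G ⧸ N), QuotientGroup.eq.2 (by simpa using inv_mem hM.inv)⟩,
      fun q => Subtype.ext (hfix q.1 q.2)⟩
  have hk : N.index % 3 = 1 := by
    have : Fintype.card (G ⧸ N) % 3 = Fintype.card (Function.fixedPoints σ) % 3 := hmod
    rwa [h1, ← Nat.card_eq_fintype_card] at this
  have hN1 : N ≠ ⊤ := normalizer_ne_top_of_ne_bot hG hM1 hM.not3 hx.three_once.1
  have hidx := card_mul_index N
  rw [h6] at hidx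
  have hM4 : 4 ≤ Nat.card M := by
    have h1 := hx.card_mod_three hM.inv hM.not3
    have h2 : Nat.card M ≠ 1 := fun e => hM1 (card_eq_one.1 e)
    omega
  have h7 : 7 ≤ N.index := by
    have h1' : N.index ≠ 1 := fun e => hN1 (index_eq_one.1 e)
    by_contra h7
    have h4 : N.index = 4 := by omega
    have hfac := SmallSimple.Basic.two_mul_card_dvd_factorial hG N hN1
    rw [h4] at hfac
    have := Nat.le_of_dvd (by norm_num [Nat.factorial]) hfac
    norm_num [Nat.factorial] at this
    rw [h4] at hidx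
    omega
  calc 42 * Nat.card M = 6 * Nat.card M * 7 := by ring
    _ ≤ Nat.card G := by rw [← hidx]; exact Nat.mul_le_mul_left _ h7

/-- A simple group with a self-centralizing element of order three has order 60 or 168. -/
theorem Self.card_simple : Nat.card G = 60 ∨ Nat.card G = 168 := by
  classical
  obtain ⟨t, ht⟩ := hx.exists_inverter hG
  obtain ⟨d, a, hd, hd4, ha4, ha, hc, hL, hdd, hdeg, hU⟩ := hx.block_data hG ht
  set C := centralizer ({t} : Set G) with hC
  have h2t := hx.inverter_order ht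
  have htC : t ∈ C := mem_centralizer_singleton_iff.2 rfl
  have hc2 : 2 ∣ Nat.card C := h2t ▸ C.orderOf_dvd_natCard htC
  have hc3 : ¬ 3 ∣ Nat.card C := hx.not_dvd_centralizer ht
  -- the family of maximal invariant subgroups
  haveI := Fintype.ofFinite (Subgroup G)
  set F : Finset (Subgroup G) := Finset.univ.filter fun M => MaxInv x M ∧ M ≠ ⊥ with hF
  have hFm : ∀ {M}, M ∈ F → MaxInv x M ∧ M ≠ ⊥ := fun h => (Finset.mem_filter.1 h).2
  set FS := F.filter fun M : Subgroup G => Nat.card (normalizer (M : Set G)) = 6 * Nat.card M with hFS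
  set FX := F.filter fun M : Subgroup G => ¬ Nat.card (normalizer (M : Set G)) = 6 * Nat.card M with hFX
  have hX3 : ∀ M ∈ FX, Nat.card (normalizer (M : Set G)) = 3 * Nat.card M := fun M hM => by
    obtain ⟨h1, h2⟩ := Finset.mem_filter.1 hM
    exact ((hFm h1).1.card_normalizer hx hG hsh (hFm h1).2).resolve_right h2
  have hpos : ∀ M ∈ F, 4 ≤ Nat.card M := fun M hM => by
    obtain ⟨h1, h2⟩ := hFm hM
    have h3 := hx.card_mod_three h1.inv h1.not3
    have h4 : Nat.card M ≠ 1 := fun e => h2 (card_eq_one.1 e)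
    omega
  -- roots
  let r : Subgroup G → ℕ := fun M => Nat.card (M ⊓ C : Subgroup G)
  have hr : ∀ M ∈ FS, Nat.card M = r M * r M := fun M hM => by
    obtain ⟨h1, h6⟩ := Finset.mem_filter.1 hM
    obtain ⟨hm, -⟩ := hFm h1
    rw [hx.card_eq_sq hm.inv hm.not3 ht (hm.inv_t hx hG hsh ht h6), pow_two]
  have hSdis : ∀ M ∈ FS, ∀ M' ∈ F, M' ≠ M → M ⊓ M' = ⊥ := fun M hM M' hM' hne => by
    obtain ⟨h1, h6⟩ := Finset.mem_filter.1 hM
    by_contra hmeet
    have := ((hFm h1).1.meet hx hG hsh (hFm hM').1 hne hmeet ht).1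
    have := hpos M h1
    omega
  have hXflip : ∀ M ∈ FX, M.map (MulAut.conj t).toMonoidHom ≠ M := fun M hM e => by
    obtain ⟨h1, -⟩ := Finset.mem_filter.1 hM
    obtain ⟨hm, hm1⟩ := hFm h1
    have htN : t ∈ normalizer (M : Set G) := mem_normalizer_iff.2 fun k =>
      ⟨fun hk => e.le ⟨k, hk, rfl⟩, fun hk => by
        obtain ⟨j, hj, hjk⟩ := e.ge hk
        exact (mul_left_cancel (mul_right_cancel (show t * j * t⁻¹ = t * k * t⁻¹ from hjk))) ▸ hj⟩
    set N := normalizer (M : Set G)
    haveI : (M.subgroupOf N).Normal := normal_in_normalizer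
    have hq3 : Nat.card (N ⧸ M.subgroupOf N) = 3 := by
      have := card_eq_card_quotient_mul_card_subgroup (M.subgroupOf N)
      rw [hX3 M hM, Nat.card_congr (subgroupOfEquivOfLe le_normalizer).toEquiv] at this
      exact (Nat.eq_of_mul_eq_mul_right Nat.card_pos this).symm
    have hto : orderOf (QuotientGroup.mk' (M.subgroupOf N) ⟨t, htN⟩) ∣ 2 := by
      refine (orderOf_map_dvd _ _).trans ?_
      rw [orderOf_mk, h2t]
    have hto3 := orderOf_dvd_natCard (QuotientGroup.mk' (M.subgroupOf N) ⟨t, htN⟩)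
    rw [hq3] at hto3
    have := Nat.eq_one_of_dvd_coprimes (by norm_num : Nat.Coprime 2 3) hto hto3
    have htM : t ∈ M := mem_subgroupOf.1 ((QuotientGroup.eq_one_iff _).1 (orderOf_eq_one_iff.1 this))
    have hprod : x = t * (x * t * x⁻¹) := by
      calc x = x⁻¹ * x⁻¹ := by rw [← mul_inv_rev, hx.mul_self, inv_inv]
        _ = (t * x * t⁻¹) * (t * t) * x⁻¹ := by rw [ht, hx.sq_eq_one ht, mul_one]
        _ = _ := by group
    refine hx.ne_one (hx.notMem hm.not3 (mem_zpowers x) ?_)
    have := mul_mem htM (hm.inv.conj_mem htM)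
    rwa [← hprod] at this
  -- the fibres of the orders
  have hsame : ∀ M ∈ FX, ∀ M' ∈ FX, ¬ Nat.Coprime (Nat.card M) (Nat.card M') →
      M' = M ∨ M' = M.map (MulAut.conj t).toMonoidHom := fun M hM M' hM' hnc => by
    obtain ⟨p, hp, hpM, hpM'⟩ := Nat.Prime.not_coprime_iff_dvd.1 hnc
    haveI := Fact.mk hp
    obtain ⟨hm, -⟩ := hFm (Finset.mem_filter.1 hM).1
    obtain ⟨hm', -⟩ := hFm (Finset.mem_filter.1 hM').1
    obtain ⟨g, rfl⟩ := hm.conjugate hx hG hsh hm' hpM hpM' (fun _ => hX3 M hM) (fun _ => hX3 _ hM')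
    exact hm.conj_cases hx hG hsh ht hm'.inv
  set MX := FX.image fun M : Subgroup G => Nat.card M with hMX
  refine Arith.card_eq_of_bounds hd hd4 ha4 ha hc hc2 hc3 hL hdd hdeg hU MX ?_ ?_ FS r ?_ ?_ ?_ ?_
  · intro m hm
    obtain ⟨M, hM, rfl⟩ := Finset.mem_image.1 hm
    have hMF := (Finset.mem_filter.1 hM).1
    obtain ⟨hm', hm1⟩ := hFm hMF
    have h4 := hpos M hMF
    refine ⟨by omega, hx.card_mod_three hm'.inv hm'.not3, hX3 M hM ▸ card_subgroup_dvd_card _, ?_⟩
    set M' := M.map (MulAut.conj t).toMonoidHom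
    have hm'' : MaxInv x M' := hm'.conj_t hx hG hsh ht
    by_cases hmeet : M ⊓ M' = ⊥
    · left
      have h := hm'.card_mul_le hx hG hsh hm'' hmeet
      have hN' : Nat.card (normalizer (M' : Set G)) = 3 * Nat.card M := by
        rw [← map_normalizer_eq_of_bijective M (f := (MulAut.conj t).toMonoidHom) (MulAut.conj t).bijective,
          card_map_of_injective (MulAut.conj t).injective, hX3 M hM]
      rw [hX3 M hM, hN', mul_assoc, mul_comm (Nat.card G)] at h
      have h' := Nat.le_of_mul_le_mul_left h (by omega)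
      calc 3 * (Nat.card M * Nat.card M) = 3 * Nat.card M * Nat.card M := (mul_assoc ..).symm
        _ ≤ _ := h'
    · right
      exact (hm'.meet hx hG hsh hm'' (hXflip M hM) hmeet ht).2
  · intro m hm m' hm' hne
    obtain ⟨M, hM, rfl⟩ := Finset.mem_image.1 hm
    obtain ⟨M', hM', rfl⟩ := Finset.mem_image.1 hm'
    by_contra hnc
    rcases hsame M hM M' hM' hnc with e | e
    · exact hne (by rw [e])
    · exact hne (by rw [e, card_map_of_injective (MulAut.conj t).injective])
  · intro M hM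
    obtain ⟨h1, h6⟩ := Finset.mem_filter.1 hM
    obtain ⟨hm, hm1⟩ := hFm h1
    rw [← hr M hM]
    refine ⟨?_, h6 ▸ card_subgroup_dvd_card _, hm.index_ge hx hG hsh hm1 ht h6⟩
    have := hr M hM
    have := hpos M h1
    nlinarith
  · intro M hM M' hM' hne
    obtain ⟨h1, h6⟩ := Finset.mem_filter.1 hM
    obtain ⟨h1', h6'⟩ := Finset.mem_filter.1 hM'
    have h := (hFm h1).1.card_mul_le hx hG hsh (hFm h1').1 (hSdis M hM M' h1' (Ne.symm hne))
    rw [h6, h6', mul_assoc, mul_comm (Nat.card G)] at h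
    have h' := Nat.le_of_mul_le_mul_left h (by have := hpos M h1; omega)
    rw [← hr M hM, ← hr M' hM']
    calc 6 * (Nat.card M * Nat.card M') = 6 * Nat.card M' * Nat.card M := by ring
      _ ≤ _ := h'
  · -- the fixed points are disjoint
    haveI := Fintype.ofFinite G
    let R : Subgroup G → Finset G := fun M => (Finset.univ.filter fun g => g ∈ M ⊓ C).erase 1
    have hcR : ∀ M, (R M).card = r M - 1 := fun M => by
      rw [Finset.card_erase_of_mem (by simp [one_mem]), ← Fintype.card_subtype, ← Nat.card_eq_fintype_card]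
    have hdis : (FS : Set (Subgroup G)).PairwiseDisjoint R := by
      intro M hM M' hM' hne
      refine Finset.disjoint_left.2 fun g hg hg' => ?_
      have h1 := (Finset.mem_filter.1 (Finset.mem_erase.1 hg).2).2
      have h2 := (Finset.mem_filter.1 (Finset.mem_erase.1 hg').2).2
      have hbot := hSdis M hM M' (Finset.mem_filter.1 hM').1 (Ne.symm hne)
      exact (Finset.mem_erase.1 hg).1 (mem_bot.1 (hbot ▸ (⟨h1.1, h2.1⟩ : g ∈ M ⊓ M')))
    rw [Finset.sum_congr rfl fun M _ => (hcR M).symm, ← Finset.card_biUnion hdis]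
    have hsub : FS.biUnion R ⊆ (((Finset.univ.filter fun g => g ∈ C).erase 1).erase t) := by
      intro g hg
      obtain ⟨M, hM, hgR⟩ := Finset.mem_biUnion.1 hg
      obtain ⟨hg1, hg2⟩ := Finset.mem_erase.1 hgR
      have hgM := (Finset.mem_filter.1 hg2).2
      refine Finset.mem_erase.2 ⟨fun e => ?_, Finset.mem_erase.2 ⟨hg1, Finset.mem_filter.2 ⟨Finset.mem_univ _, hgM.2⟩⟩⟩
      subst e
      obtain ⟨hm, -⟩ := hFm (Finset.mem_filter.1 hM).1
      have hprod : x = g * (x * g * x⁻¹) := by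
        calc x = x⁻¹ * x⁻¹ := by rw [← mul_inv_rev, hx.mul_self, inv_inv]
          _ = (g * x * g⁻¹) * (g * g) * x⁻¹ := by rw [ht, hx.sq_eq_one ht, mul_one]
          _ = _ := by group
      refine hx.ne_one (hx.notMem hm.not3 (mem_zpowers x) ?_)
      have := mul_mem hgM.1 (hm.inv.conj_mem hgM.1)
      rwa [← hprod] at this
    refine (Finset.card_le_card hsub).trans (le_of_eq ?_)
    rw [Finset.card_erase_of_mem (Finset.mem_erase.2 ⟨hx.inverter_ne_one ht, by simp [htC]⟩),
      Finset.card_erase_of_mem (by simp [one_mem]), ← Fintype.card_subtype, ← Nat.card_eq_fintype_card]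
    omega
  · -- the pairs
    have hsplit : ∑ M ∈ FS, (r M * r M - 1) + ∑ M ∈ FX, (Nat.card M - 1) = ∑ M ∈ F, (Nat.card M - 1) := by
      rw [← Finset.sum_filter_add_sum_filter_not F
        (fun M : Subgroup G => Nat.card (normalizer (M : Set G)) = 6 * Nat.card M)]
      congr 1
      exact Finset.sum_congr rfl fun M hM => by rw [← hr M hM]
    have hfib : ∑ M ∈ FX, (Nat.card M - 1) ≤ 2 * ∑ m ∈ MX, (m - 1) := by
      rw [Finset.mul_sum, ← Finset.sum_fiberwise_of_maps_to (g := fun M : Subgroup G => Nat.card M)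
        (fun M hM => Finset.mem_image_of_mem (fun M : Subgroup G => Nat.card M) hM)]
      refine Finset.sum_le_sum fun m hm => ?_
      rw [Finset.sum_congr rfl fun M hM => by rw [(Finset.mem_filter.1 hM).2], Finset.sum_const, smul_eq_mul]
      refine Nat.mul_le_mul_right _ ?_
      obtain ⟨M, hM, rfl⟩ := Finset.mem_image.1 hm
      refine (Finset.card_le_card (t := {M, M.map (MulAut.conj t).toMonoidHom}) fun M' hM' => ?_).trans
        Finset.card_le_two
      obtain ⟨h1, h2⟩ := Finset.mem_filter.1 hM'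
      have := hsame M hM M' h1 fun hco => by
        rw [h2, Nat.coprime_self] at hco
        have := hpos M (Finset.mem_filter.1 hM).1
        omega
      simpa using this
    haveI := Fintype.ofFinite G
    let U : Finset G := insert 1 (F.biUnion fun M => (Finset.univ.filter fun g => g ∈ M).erase 1)
    have hle : Nat.card {p : G × G // IsConj x p.1 ∧ IsConj x p.2 ∧ p.1 * p.2 = x} ≤ U.card := by
      rw [← Fintype.card_coe U, ← Nat.card_eq_fintype_card]
      refine Nat.card_le_card_of_injective (fun p => (⟨p.1.1 * x, ?_⟩ : U)) ?_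
      · obtain ⟨⟨y, z⟩, hy, hz, e⟩ := p
        have ho : ∀ w, IsConj x w → orderOf w = 3 := fun w hw => by
          obtain ⟨g, rfl⟩ := isConj_iff.1 hw
          exact (hx.conj g).order
        rcases hx.pair_mem (ho y hy) (ho z hz) e with h | ⟨L, hL, hL3, hmem⟩
        · exact Finset.mem_insert.2 (Or.inl h)
        · by_cases h1 : y * x = 1
          · exact Finset.mem_insert.2 (Or.inl h1)
          obtain ⟨M, hM, hLM⟩ := exists_maxInv hL hL3
          refine Finset.mem_insert_of_mem (Finset.mem_biUnion.2 ⟨M, Finset.mem_filter.2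
            ⟨Finset.mem_univ _, hM, fun e => h1 (mem_bot.1 (e ▸ hLM hmem))⟩, ?_⟩)
          exact Finset.mem_erase.2 ⟨h1, by simpa using hLM hmem⟩
      · rintro ⟨⟨y, z⟩, hy, hz, e⟩ ⟨⟨y', z'⟩, hy', hz', e'⟩ h
        have h1 : y = y' := mul_right_cancel (congrArg Subtype.val h : y * x = y' * x)
        subst h1
        exact Subtype.ext (Prod.ext rfl (mul_left_cancel (e.trans e'.symm)))
    refine hle.trans ?_
    refine (Finset.card_insert_le _ _).trans ?_
    have hb : (F.biUnion fun M => (Finset.univ.filter fun g => g ∈ M).erase 1).card ≤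
        ∑ M ∈ F, (Nat.card M - 1) := by
      refine Finset.card_biUnion_le.trans (le_of_eq (Finset.sum_congr rfl fun M _ => ?_))
      rw [Finset.card_erase_of_mem (by simp [one_mem]), ← Fintype.card_subtype, ← Nat.card_eq_fintype_card]
    omega

end Cfsg.Agent.SelfThree
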