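import Cfsg.Agent.Solvable.Thompson
import Cfsg.Agent.Lib.SmallSimple.Basic

/-!
# A self-centralizing element of order three
-/

set_option autoImplicit false
set_option linter.style.haveILetI false
set_option linter.unusedSectionVars false

namespace Cfsg.Agent.SelfThree

open Subgroup

universe u

variable {G : Type u} [Group G]

/-- `x` has order three and generates its own centralizer. -/
structure Self (x : G) : Prop where
  order : orderOf x = 3
  cent : ∀ g : G, x * g = g * x → g ∈ zpowers x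

/-- `H` is normalized by `x`. -/
abbrev Inv (x : G) (H : Subgroup G) : Prop := x ∈ normalizer (H : Set G)

variable {x : G}

theorem Self.pow_three (hx : Self x) : x ^ 3 = 1 := hx.order ▸ pow_orderOf_eq_one x

theorem Self.ne_one (hx : Self x) : x ≠ 1 := fun h => by
  have := hx.order
  rw [h, orderOf_one] at this
  norm_num at this

theorem Self.mul_three (hx : Self x) : x * x * x = 1 := by
  rw [← pow_two, ← pow_succ]; exact hx.pow_three

theorem Self.mul_self (hx : Self x) : x * x = x⁻¹ := eq_inv_of_mul_eq_one_left hx.mul_three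

theorem Self.mem_zpowers_iff (hx : Self x) {g : G} :
    g ∈ zpowers x ↔ g = 1 ∨ g = x ∨ g = x⁻¹ := by
  constructor
  · rintro ⟨k, rfl⟩
    have h3 : x ^ (3 : ℤ) = 1 := by exact_mod_cast hx.pow_three
    have h : x ^ k = x ^ (k % 3) := by
      conv_lhs => rw [← Int.emod_add_mul_ediv k 3, zpow_add, zpow_mul, h3, one_zpow, mul_one]
    rcases (show k % 3 = 0 ∨ k % 3 = 1 ∨ k % 3 = 2 by omega) with e | e | e <;>
      dsimp only <;> rw [h, e]
    · exact Or.inl (zpow_zero x)
    · exact Or.inr (Or.inl (zpow_one x))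
    · refine Or.inr (Or.inr (eq_inv_of_mul_eq_one_left ?_))
      calc x ^ (2 : ℤ) * x = x ^ ((2 : ℤ) + 1) := (zpow_add_one x 2).symm
        _ = x ^ (3 : ℤ) := rfl
        _ = 1 := h3
  · rintro (h | h | h) <;> rw [h]
    exacts [one_mem _, mem_zpowers x, inv_mem (mem_zpowers x)]

theorem Self.conj (hx : Self x) (g : G) : Self (g * x * g⁻¹) where
  order := (orderOf_injective (MulAut.conj g).toMonoidHom (MulAut.conj g).injective x).trans hx.order
  cent y hy := by
    have h : g⁻¹ * y * g ∈ zpowers x := hx.cent _ (by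
      calc x * (g⁻¹ * y * g) = g⁻¹ * (g * x * g⁻¹ * y) * g := by group
        _ = g⁻¹ * (y * (g * x * g⁻¹)) * g := by rw [hy]
        _ = _ := by group)
    obtain ⟨k, hk⟩ := h
    refine ⟨k, ?_⟩
    simp only [conj_zpow]
    simp only at hk
    rw [hk]; group

theorem Self.inv (hx : Self x) : Self x⁻¹ where
  order := by rw [orderOf_inv, hx.order]
  cent g hg := by
    rw [zpowers_inv]
    exact hx.cent g (by
      calc x * g = x * (g * x⁻¹) * x := by group
        _ = x * (x⁻¹ * g) * x := by rw [hg]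
        _ = g * x := by group)

/-- Restriction to a subgroup. -/
theorem Self.subgroup (hx : Self x) {H : Subgroup G} (hH : x ∈ H) : Self (⟨x, hH⟩ : H) where
  order := by rw [orderOf_mk, hx.order]
  cent g hg := by
    obtain ⟨k, hk⟩ := hx.cent g (congrArg Subtype.val hg)
    exact ⟨k, Subtype.ext (by simpa using hk)⟩

theorem Self.map {H : Type u} [Group H] (hx : Self x) (e : G ≃* H) : Self (e x) where
  order := by rw [← hx.order]; exact orderOf_injective e.toMonoidHom e.injective x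
  cent g hg := by
    obtain ⟨k, hk⟩ := hx.cent (e.symm g) (e.injective (by simp [hg]))
    refine ⟨k, ?_⟩
    simp only at hk ⊢
    rw [← map_zpow, hk, e.apply_symm_apply]

variable [Finite G]

/-- The order of `G` is divisible by three exactly once. -/
theorem Self.three_once (hx : Self x) : 3 ∣ Nat.card G ∧ ¬ 9 ∣ Nat.card G := by
  haveI : Fact (Nat.Prime 3) := ⟨Nat.prime_three⟩
  refine ⟨hx.order ▸ orderOf_dvd_natCard x, fun h9 => ?_⟩
  have hX : IsPGroup 3 (zpowers x) := IsPGroup.of_card (n := 1) (by rw [Nat.card_zpowers, hx.order, pow_one])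
  obtain ⟨P, hP⟩ := hX.exists_le_sylow
  have hxP : x ∈ (P : Subgroup G) := hP (mem_zpowers x)
  haveI : Nontrivial (P : Subgroup G) := ⟨⟨⟨x, hxP⟩, 1, fun e => hx.ne_one (congrArg Subtype.val e)⟩⟩
  haveI := P.2.center_nontrivial
  obtain ⟨z, hz⟩ := exists_ne (1 : center (P : Subgroup G))
  have hzx : ((z : (P : Subgroup G)) : G) ∈ zpowers x :=
    hx.cent _ (congrArg Subtype.val (mem_center_iff.1 z.2 ⟨x, hxP⟩))
  have hzc : ∀ y : (P : Subgroup G), (y : G) * ((z : (P : Subgroup G)) : G) = ((z : (P : Subgroup G)) : G) * y :=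
    fun y => congrArg Subtype.val (mem_center_iff.1 z.2 y)
  have hle : (P : Subgroup G) ≤ zpowers x := by
    intro y hy
    refine hx.cent y ?_
    rcases hx.mem_zpowers_iff.1 hzx with e | e | e
    · exact absurd (Subtype.ext (Subtype.ext e)) hz
    · have := hzc ⟨y, hy⟩
      rw [e] at this
      exact this.symm
    · have := hzc ⟨y, hy⟩
      rw [e] at this
      calc x * y = x * (y * x⁻¹) * x := by group
        _ = x * (x⁻¹ * y) * x := by rw [this]
        _ = y * x := by group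
  have h := card_dvd_of_le hle
  rw [Nat.card_zpowers, hx.order] at h
  have h2 : 9 ∣ Nat.card (P : Subgroup G) := by
    rw [P.card_eq_multiplicity]
    exact pow_dvd_pow 3 (((Nat.prime_three).pow_dvd_iff_le_factorization Nat.card_pos.ne').1
      (show 3 ^ 2 ∣ Nat.card G from h9))
  have := Nat.le_of_dvd (by norm_num) (h2.trans h)
  omega

theorem Self.coe_sylow (hx : Self x) (P : Sylow 3 G) : Nat.card (P : Subgroup G) = 3 := by
  haveI : Fact (Nat.Prime 3) := ⟨Nat.prime_three⟩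
  obtain ⟨m, hm⟩ := hx.three_once.1
  simpa using SmallSimple.Basic.card_sylow_eq_pow (p := 3) (a := 1) (m := m) (by rw [pow_one, hm])
    (fun h => hx.three_once.2 (hm ▸ mul_dvd_mul_left 3 h)) P

/-- Any element of order three is conjugate to `x` or to its inverse. -/
theorem Self.exists_conj (hx : Self x) {y : G} (hy : orderOf y = 3) :
    ∃ g : G, g * x * g⁻¹ = y ∨ g * x⁻¹ * g⁻¹ = y := by
  haveI : Fact (Nat.Prime 3) := ⟨Nat.prime_three⟩
  have hP : Nat.card (zpowers x) = 3 ^ (Nat.card G).factorization 3 := by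
    rw [Nat.card_zpowers, hx.order, ← SmallSimple.Basic.card_sylow_eq (default : Sylow 3 G), hx.coe_sylow]
  have hQ : Nat.card (zpowers y) = 3 ^ (Nat.card G).factorization 3 := by
    rw [Nat.card_zpowers, hy]
    rw [Nat.card_zpowers, hx.order] at hP
    exact hP
  obtain ⟨g, hg⟩ := MulAction.exists_smul_eq G (Sylow.ofCard _ hP) (Sylow.ofCard _ hQ)
  refine ⟨g, ?_⟩
  have hmem : y ∈ ((g • Sylow.ofCard _ hP : Sylow 3 G) : Subgroup G) := by
    rw [hg]; exact mem_zpowers y
  rw [Sylow.coe_subgroup_smul] at hmem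
  obtain ⟨z, hz, rfl⟩ := hmem
  rcases hx.mem_zpowers_iff.1 hz with rfl | rfl | rfl
  · exfalso; simp at hy
  · exact Or.inl rfl
  · exact Or.inr rfl

theorem Self.of_order (hx : Self x) {y : G} (hy : orderOf y = 3) : Self y := by
  obtain ⟨g, h | h⟩ := hx.exists_conj hy
  · exact h ▸ hx.conj g
  · exact h ▸ hx.inv.conj g

/-! ### Invariant subgroups of order prime to three -/

variable {H : Subgroup G}

theorem Self.notMem (hx : Self x) (hH : ¬ 3 ∣ Nat.card H) {g : G} (hg : g ∈ zpowers x) (hgH : g ∈ H) :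
    g = 1 := by
  by_contra hne
  have hg3 : orderOf g = 3 := by
    rcases hx.mem_zpowers_iff.1 hg with rfl | rfl | rfl
    · exact absurd rfl hne
    · exact hx.order
    · rw [orderOf_inv, hx.order]
  exact hH (hg3 ▸ H.orderOf_dvd_natCard hgH)

theorem Self.eq_one_of_comm (hx : Self x) (hH : ¬ 3 ∣ Nat.card H) {h : G} (hh : h ∈ H)
    (hc : x * h = h * x) : h = 1 := hx.notMem hH (hx.cent h hc) hh

theorem Inv.conj_mem {h : G} (hi : Inv x H) (hh : h ∈ H) : x * h * x⁻¹ ∈ H :=
  (mem_normalizer_iff.1 hi h).1 hh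

theorem Inv.inv {y : G} {K : Subgroup G} (hi : Inv y K) : Inv y⁻¹ K := inv_mem hi

/-- Every element of the coset `H x` is conjugate to `x` under `H`. -/
theorem Self.exists_conj_of_coset (hx : Self x) (hi : Inv x H) (hH : ¬ 3 ∣ Nat.card H) {n : G}
    (hn : n ∈ H) : ∃ h ∈ H, h * x * h⁻¹ = n * x := by
  let f : H → H := fun h => ⟨(h : G) * (x * (h : G)⁻¹ * x⁻¹),
    mul_mem h.2 (hi.conj_mem (inv_mem h.2))⟩
  have hf : Function.Injective f := fun a b hab => by
    have e : (a : G) * (x * (a : G)⁻¹ * x⁻¹) = (b : G) * (x * (b : G)⁻¹ * x⁻¹) :=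
      congrArg Subtype.val hab
    have : ((b : G)⁻¹ * a) = 1 := hx.eq_one_of_comm hH (mul_mem (inv_mem b.2) a.2) (by
      have e2 : ((b : G)⁻¹ * a) * x * ((b : G)⁻¹ * a)⁻¹ = x := by
        calc ((b : G)⁻¹ * a) * x * ((b : G)⁻¹ * a)⁻¹
            = (b : G)⁻¹ * ((a : G) * (x * (a : G)⁻¹ * x⁻¹)) * x * b := by group
          _ = (b : G)⁻¹ * ((b : G) * (x * (b : G)⁻¹ * x⁻¹)) * x * b := by rw [e]
          _ = x := by group
      exact (mul_inv_eq_iff_eq_mul.1 e2).symm)
    exact Subtype.ext (eq_comm.1 (inv_mul_eq_one.1 this))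
  obtain ⟨h, hh⟩ := (Finite.injective_iff_surjective.1 hf) ⟨n, hn⟩
  refine ⟨h, h.2, ?_⟩
  have e : (h : G) * (x * (h : G)⁻¹ * x⁻¹) = n := congrArg Subtype.val hh
  rw [← e]; group

theorem Self.order_coset (hx : Self x) (hi : Inv x H) (hH : ¬ 3 ∣ Nat.card H) {n : G} (hn : n ∈ H) :
    Self (n * x) := by
  obtain ⟨h, -, e⟩ := hx.exists_conj_of_coset hi hH hn
  exact e ▸ hx.conj h

/-- `n · n^x · n^(x²) = 1`. -/
theorem Self.triple (hx : Self x) (hi : Inv x H) (hH : ¬ 3 ∣ Nat.card H) {n : G} (hn : n ∈ H) :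
    n * (x * n * x⁻¹) * (x * (x * n * x⁻¹) * x⁻¹) = 1 := by
  have h := (hx.order_coset hi hH hn).pow_three
  rw [pow_succ, pow_two] at h
  calc n * (x * n * x⁻¹) * (x * (x * n * x⁻¹) * x⁻¹) = (n * x * (n * x) * (n * x)) * (x ^ 3)⁻¹ := by group
    _ = 1 := by rw [h, hx.pow_three]; group

/-- An element commutes with its conjugate under `x`. -/
theorem Self.commute_conj (hx : Self x) (hi : Inv x H) (hH : ¬ 3 ∣ Nat.card H) {n : G} (hn : n ∈ H) :
    n * (x * n * x⁻¹) = (x * n * x⁻¹) * n := by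
  have h1 := hx.triple hi hH hn
  have h2 := hx.inv.triple hi.inv hH hn
  have e : x⁻¹ * x⁻¹ = x := by
    calc x⁻¹ * x⁻¹ = (x ^ 3)⁻¹ * x := by group
      _ = x := by rw [hx.pow_three]; group
  set B := x * n * x⁻¹
  set C := x * B * x⁻¹
  have hC : C = x⁻¹ * n * x := by
    calc C = (x * x) * n * (x * x)⁻¹ := by simp only [C, B]; group
      _ = x⁻¹ * n * x := by rw [hx.mul_self, inv_inv]
  have h3 : n * C * B = 1 := by
    calc n * C * B = n * (x⁻¹ * n * x⁻¹⁻¹) * (x⁻¹ * (x⁻¹ * n * x⁻¹⁻¹) * x⁻¹⁻¹) := by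
          rw [hC, inv_inv]
          congr 1
          calc B = (x⁻¹ * x⁻¹) * n * (x⁻¹ * x⁻¹)⁻¹ := by rw [e]
            _ = _ := by simp [mul_assoc]
      _ = 1 := h2
  have hBC : B * C = C * B := mul_left_cancel ((mul_assoc n B C).symm.trans
    (h1.trans (h3.symm.trans (mul_assoc n C B))))
  calc n * B = x⁻¹ * (x * n * x⁻¹ * (x * B * x⁻¹)) * x := by group
    _ = x⁻¹ * (C * B) * x := by rw [← hBC]
    _ = _ := by simp only [C, B]; group

/-- An invariant subgroup of order prime to three is nilpotent. -/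
theorem Self.isNilpotent (hx : Self x) (hi : Inv x H) (hH : ¬ 3 ∣ Nat.card H) : Group.IsNilpotent H := by
  let φ : MulAut H := MulEquiv.subgroupMap (MulAut.conj x) H |>.trans (MulEquiv.subgroupCongr (by
    apply le_antisymm
    · rintro _ ⟨h, hh, rfl⟩; exact hi.conj_mem hh
    · intro h hh
      exact ⟨x⁻¹ * h * x⁻¹⁻¹, hi.inv.conj_mem hh, by simp [mul_assoc]⟩))
  have hφ : ∀ h : H, (φ h : G) = x * h * x⁻¹ := fun h => rfl
  refine Solvable.Thompson.isNilpotent_of_fixedPointFree φ Nat.prime_three (fun h hh => ?_) ?_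
  · refine Subtype.ext (hx.eq_one_of_comm hH h.2 ?_)
    have := congrArg Subtype.val hh
    rw [hφ] at this
    exact mul_inv_eq_iff_eq_mul.1 this
  · refine MulEquiv.ext fun h => Subtype.ext ?_
    change (φ (φ (φ h)) : G) = h
    rw [hφ, hφ, hφ]
    calc x * (x * (x * h * x⁻¹) * x⁻¹) * x⁻¹ = (x * x * x) * h * (x * x * x)⁻¹ := by group
      _ = h := by rw [hx.mul_three]; group

/-- An invariant subgroup of order prime to three has order one modulo three. -/
theorem Self.card_mod_three (hx : Self x) (hi : Inv x H) (hH : ¬ 3 ∣ Nat.card H) : Nat.card H % 3 = 1 := by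
  classical
  haveI : Fact (Nat.Prime 3) := ⟨Nat.prime_three⟩
  haveI := Fintype.ofFinite H
  let f : Function.End H := fun h => ⟨x * h * x⁻¹, hi.conj_mem h.2⟩
  have hf : f ^ 3 ^ 1 = 1 := by
    funext h
    refine Subtype.ext ?_
    change x * (x * (x * h * x⁻¹) * x⁻¹) * x⁻¹ = (h : G)
    calc x * (x * (x * h * x⁻¹) * x⁻¹) * x⁻¹ = (x * x * x) * h * (x * x * x)⁻¹ := by group
      _ = h := by rw [hx.mul_three]; group
  have h := Equiv.Perm.card_fixedPoints_modEq hf
  have h1 : Fintype.card (Function.fixedPoints f) = 1 := Fintype.card_eq_one_iff.2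
    ⟨⟨1, Subtype.ext (by simp [f])⟩, fun a => Subtype.ext (Subtype.ext (hx.eq_one_of_comm hH a.1.2
      (mul_inv_eq_iff_eq_mul.1 (congrArg Subtype.val (a.2 : f a = a)))))⟩
  rw [Nat.card_eq_fintype_card]
  have : Fintype.card H % 3 = Fintype.card (Function.fixedPoints f) % 3 := h
  rw [h1] at this
  exact this

/-- Self-centralizing modulo an invariant subgroup. -/
theorem Self.lift (hx : Self x) (hi : Inv x H) (hH : ¬ 3 ∣ Nat.card H) {g : G}
    (hg : g * x * g⁻¹ * x⁻¹ ∈ H) : ∃ h ∈ H, h * g ∈ zpowers x := by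
  obtain ⟨h, hh, e⟩ := hx.exists_conj_of_coset hi hH hg
  refine ⟨h⁻¹, inv_mem hh, hx.cent _ ?_⟩
  calc x * (h⁻¹ * g) = h⁻¹ * (h * x * h⁻¹) * g := by group
    _ = h⁻¹ * (g * x * g⁻¹ * x⁻¹ * x) * g := by rw [e]
    _ = _ := by group

theorem Self.quotient (hx : Self x) (N : Subgroup G) [hN : N.Normal] (hH : ¬ 3 ∣ Nat.card N) :
    Self (QuotientGroup.mk' N x) := by
  have hi : Inv x N := by rw [Inv, normalizer_eq_top]; exact mem_top _
  refine ⟨orderOf_eq_prime (hp := ⟨Nat.prime_three⟩) (by rw [← map_pow, hx.pow_three, map_one]) fun h => ?_,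
    fun g hg => ?_⟩
  · exact hx.ne_one (hx.notMem hH (mem_zpowers x) ((QuotientGroup.eq_one_iff x).1 h))
  obtain ⟨g, rfl⟩ := QuotientGroup.mk'_surjective N g
  have hmem : g * x * g⁻¹ * x⁻¹ ∈ N := (QuotientGroup.eq_one_iff _).1 (by
    change QuotientGroup.mk' N (g * x * g⁻¹ * x⁻¹) = 1
    rw [map_mul, map_mul, map_mul, ← hg, map_inv, map_inv]; group)
  obtain ⟨h, hh, k, hk⟩ := hx.lift hi hH hmem
  refine ⟨k, ?_⟩
  simp only at hk ⊢
  rw [← map_zpow, hk, map_mul, show QuotientGroup.mk' N h = 1 from (QuotientGroup.eq_one_iff h).2 hh, one_mul]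

/-! ### The inverting involution -/

variable {t : G}

theorem Self.sq_eq_one (hx : Self x) (ht : t * x * t⁻¹ = x⁻¹) : t * t = 1 := by
  have h1 : x * (t * t) = t * t * x := by
    symm
    calc t * t * x = t * (t * x * t⁻¹) * t := by group
      _ = t * x⁻¹ * t := by rw [ht]
      _ = (t * x * t⁻¹)⁻¹ * (t * t) := by group
      _ = x * (t * t) := by rw [ht, inv_inv]
  have h2 := hx.cent _ h1
  have ht2 : x⁻¹ = t * x * t⁻¹ := ht.symm
  rcases hx.mem_zpowers_iff.1 h2 with e | e | e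
  · exact e
  · exfalso
    have h3 : t * x * t⁻¹ = x := by rw [← e]; group
    rw [ht] at h3
    have : x * x = 1 := by nth_rewrite 1 [← h3]; group
    have h4 := orderOf_dvd_of_pow_eq_one (show x ^ 2 = 1 by rw [pow_two, this])
    rw [hx.order] at h4; norm_num at h4
  · exfalso
    have h3 : t * x⁻¹ * t⁻¹ = x⁻¹ := by rw [← e]; group
    have h5 : (t * x * t⁻¹)⁻¹ = x⁻¹ := by rw [← h3]; group
    rw [ht, inv_inv] at h5
    have : x * x = 1 := by nth_rewrite 1 [h5]; group
    have h4 := orderOf_dvd_of_pow_eq_one (show x ^ 2 = 1 by rw [pow_two, this])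
    rw [hx.order] at h4; norm_num at h4

theorem Self.inverter_ne_one (hx : Self x) (ht : t * x * t⁻¹ = x⁻¹) : t ≠ 1 := fun h => by
  rw [h] at ht
  have : x * x = 1 := by
    nth_rewrite 2 [show x = x⁻¹ by simpa using ht]
    group
  have h4 := orderOf_dvd_of_pow_eq_one (show x ^ 2 = 1 by rw [pow_two, this])
  rw [hx.order] at h4; norm_num at h4

theorem Self.inverter_order (hx : Self x) (ht : t * x * t⁻¹ = x⁻¹) : orderOf t = 2 :=
  orderOf_eq_prime (hp := ⟨Nat.prime_two⟩) (by rw [pow_two, hx.sq_eq_one ht]) (hx.inverter_ne_one ht)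

theorem Self.not_dvd_centralizer (hx : Self x) (ht : t * x * t⁻¹ = x⁻¹) :
    ¬ 3 ∣ Nat.card (centralizer ({t} : Set G)) := by
  intro h
  haveI : Fact (Nat.Prime 3) := ⟨Nat.prime_three⟩
  obtain ⟨⟨y, hy⟩, hyo⟩ := exists_prime_orderOf_dvd_card' (G := centralizer ({t} : Set G)) 3 h
  rw [orderOf_mk] at hyo
  have hy' := hx.of_order hyo
  have hc : y * t = t * y := (mem_centralizer_iff.1 hy t rfl).symm
  have htm := hy'.cent t hc
  have h2 := hx.inverter_order ht
  rcases hy'.mem_zpowers_iff.1 htm with rfl | rfl | rfl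
  · exact hx.inverter_ne_one ht rfl
  · omega
  · rw [orderOf_inv] at h2; omega

theorem Self.exists_inverter [IsSimpleGroup G] (hx : Self x) (hG : ¬ IsMulCommutative G) :
    ∃ t : G, t * x * t⁻¹ = x⁻¹ := by
  haveI : Fact (Nat.Prime 3) := ⟨Nat.prime_three⟩
  obtain ⟨P, hP⟩ := (IsPGroup.of_card (n := 1) (by rw [Nat.card_zpowers, hx.order, pow_one]) :
    IsPGroup 3 (zpowers x)).exists_le_sylow
  have hPe : (P : Subgroup G) = zpowers x := (eq_of_le_of_card_ge hP (by
    rw [hx.coe_sylow P, Nat.card_zpowers, hx.order])).symm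
  have h := SmallSimple.Basic.not_normalizer_le_centralizer hG hx.three_once.1 P
  rw [SetLike.not_le_iff_exists] at h
  obtain ⟨g, hg, hgc⟩ := h
  rw [hPe] at hg hgc
  have hm : g * x * g⁻¹ ∈ zpowers x := (mem_normalizer_iff.1 hg x).1 (mem_zpowers x)
  refine ⟨g, ?_⟩
  rcases hx.mem_zpowers_iff.1 hm with e | e | e
  · exact absurd (by simpa using e) hx.ne_one
  · refine absurd (mem_centralizer_iff.2 fun y hy => ?_) hgc
    obtain ⟨k, rfl⟩ := hy
    have : g * x ^ k * g⁻¹ = x ^ k := by rw [← conj_zpow, e]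
    exact (mul_inv_eq_iff_eq_mul.1 this).symm
  · exact e

/-- The order of an invariant subgroup is the square of the order of the fixed points of an
inverting involution normalizing it. -/
theorem Self.card_eq_sq (hx : Self x) (hi : Inv x H) (hH : ¬ 3 ∣ Nat.card H)
    (ht : t * x * t⁻¹ = x⁻¹) (hti : Inv t H) :
    Nat.card H = Nat.card (H ⊓ centralizer ({t} : Set G) : Subgroup G) ^ 2 := by
  classical
  have htt := hx.sq_eq_one ht
  have htinv : t⁻¹ = t := inv_eq_of_mul_eq_one_left htt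
  let C : Subgroup H := (centralizer ({t} : Set G)).subgroupOf H
  let f : H → G := fun h => h * t * (h : G)⁻¹
  have hfib : ∀ a b : H, f a = f b ↔ a⁻¹ * b ∈ C := by
    intro a b
    simp only [f, C, mem_subgroupOf, mem_centralizer_singleton_iff, Subgroup.coe_mul, Subgroup.coe_inv]
    constructor
    · intro e
      calc (a : G)⁻¹ * b * t = (a : G)⁻¹ * (b * t * (b : G)⁻¹) * b := by group
        _ = (a : G)⁻¹ * (a * t * (a : G)⁻¹) * b := by rw [e]
        _ = t * ((a : G)⁻¹ * b) := by group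
    · intro e
      calc (a : G) * t * (a : G)⁻¹ = a * (t * ((a : G)⁻¹ * b)) * (b : G)⁻¹ := by group
        _ = a * ((a : G)⁻¹ * b * t) * (b : G)⁻¹ := by rw [e]
        _ = _ := by group
  have hrange : Nat.card (Set.range f) = C.index := by
    let F : H ⧸ C → Set.range f := Quotient.lift (fun a => (⟨f a, a, rfl⟩ : Set.range f))
      fun a b hab => Subtype.ext ((hfib a b).2 (QuotientGroup.leftRel_apply.1 hab))
    refine (Nat.card_congr (Equiv.ofBijective F ⟨?_, ?_⟩)).symm
    · intro a b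
      refine Quotient.inductionOn₂ a b fun a b e => Quotient.sound ?_
      exact QuotientGroup.leftRel_apply.2 ((hfib a b).1 (congrArg Subtype.val e))
    · rintro ⟨_, a, rfl⟩; exact ⟨Quotient.mk'' a, rfl⟩
  -- uniqueness of the inverting involution in the coset
  have huniq : ∀ a ∈ H, (a * t) * x * (a * t)⁻¹ = x⁻¹ → a = 1 := fun a ha e => by
    refine hx.inv.eq_one_of_comm hH ha ?_
    have e' : a * x⁻¹ * a⁻¹ = x⁻¹ := by
      calc a * x⁻¹ * a⁻¹ = a * (t * x * t⁻¹) * a⁻¹ := by rw [ht]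
        _ = (a * t) * x * (a * t)⁻¹ := by group
        _ = x⁻¹ := e
    exact (mul_inv_eq_iff_eq_mul.1 e').symm
  have hcos : ∀ u ∈ Set.range f, u * t ∈ H ∧ u * u = 1 := by
    rintro _ ⟨a, rfl⟩
    refine ⟨?_, ?_⟩
    · have h1 : t * (a : G)⁻¹ * t ∈ H := by
        have := hti.conj_mem (inv_mem a.2)
        rwa [htinv] at this
      have h2 : f a * t = (a : G) * (t * (a : G)⁻¹ * t) := by simp only [f]; group
      rw [h2]; exact mul_mem a.2 h1
    · simp only [f]
      calc (a : G) * t * (a : G)⁻¹ * (a * t * (a : G)⁻¹) = (a : G) * (t * t) * (a : G)⁻¹ := by group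
        _ = 1 := by rw [htt]; group
  have hxt : t * (x * t * x⁻¹) = x := by
    calc t * (x * t * x⁻¹) = (t * x * t⁻¹) * (t * t) * x⁻¹ := by group
      _ = x⁻¹ * x⁻¹ := by rw [ht, htt, mul_one]
      _ = (x ^ 3)⁻¹ * x := by group
      _ = x := by rw [hx.pow_three]; group
  have htxt : ∀ u v : G, u * t ∈ H → v * t ∈ H → u * (x * v * x⁻¹) * x⁻¹ ∈ H := by
    intro u v hu hv
    have h1 : t * (x * (v * t) * x⁻¹) * t⁻¹ ∈ H := hti.conj_mem (hi.conj_mem hv)
    have e : u * (x * v * x⁻¹) * x⁻¹ = (u * t) * (t * (x * (v * t) * x⁻¹) * t⁻¹) *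
        (t * (x * t * x⁻¹) * x⁻¹) := by
      calc u * (x * v * x⁻¹) * x⁻¹ = u * (t * t) * (x * v * (t * t) * x⁻¹) * x⁻¹ := by rw [htt]; group
        _ = _ := by group
    rw [e, hxt, mul_inv_cancel, mul_one]
    exact mul_mem hu h1
  let Φ : Set.range f × Set.range f → H := fun p =>
    ⟨(p.1 : G) * (x * (p.2 : G) * x⁻¹) * x⁻¹, htxt _ _ (hcos _ p.1.2).1 (hcos _ p.2.2).1⟩
  have hΦ : Function.Bijective Φ := by
    constructor
    · rintro ⟨⟨u, hu⟩, v, hv⟩ ⟨⟨u', hu'⟩, v', hv'⟩ e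
      have e' : u * (x * v * x⁻¹) = u' * (x * v' * x⁻¹) :=
        mul_right_cancel (congrArg Subtype.val e : u * (x * v * x⁻¹) * x⁻¹ = u' * (x * v' * x⁻¹) * x⁻¹)
      obtain ⟨h, hh, eh⟩ := hx.exists_conj_of_coset hi hH (htxt u v (hcos u hu).1 (hcos v hv).1)
      rw [inv_mul_cancel_right] at eh
      have key : ∀ a b : G, a * t ∈ H → a * a = 1 → b * b = 1 → a * (x * b * x⁻¹) = h * x * h⁻¹ →
          a = h * t * h⁻¹ := by
        intro a b haH ha hb hab
        have hinv : a * (h * x * h⁻¹) * a⁻¹ = (h * x * h⁻¹)⁻¹ := by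
          rw [← hab]
          calc a * (a * (x * b * x⁻¹)) * a⁻¹ = (a * a) * (x * b * x⁻¹) * a⁻¹ := by group
            _ = (x * b⁻¹ * x⁻¹) * a⁻¹ := by rw [ha, inv_eq_of_mul_eq_one_left hb]; group
            _ = _ := by group
        have hmem : h⁻¹ * a * h * t ∈ H := by
          have h1 : t * h * t⁻¹ ∈ H := hti.conj_mem hh
          rw [htinv] at h1
          have e2 : h⁻¹ * a * h * t = h⁻¹ * (a * t) * (t * h * t) := by
            calc h⁻¹ * a * h * t = h⁻¹ * a * (t * t) * h * t := by rw [htt]; group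
              _ = _ := by group
          rw [e2]; exact mul_mem (mul_mem (inv_mem hh) haH) h1
        have h2 := huniq _ hmem (by
          calc h⁻¹ * a * h * t * t * x * (h⁻¹ * a * h * t * t)⁻¹
              = h⁻¹ * a * h * (t * t) * x * (h⁻¹ * a * h * (t * t))⁻¹ := by group
            _ = h⁻¹ * (a * (h * x * h⁻¹) * a⁻¹) * h := by rw [htt]; group
            _ = x⁻¹ := by rw [hinv]; group)
        calc a = h * (h⁻¹ * a * h * t) * t⁻¹ * h⁻¹ := by group
          _ = h * t * h⁻¹ := by rw [h2, htinv]; group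
      have hu1 := key u v (hcos u hu).1 (hcos u hu).2 (hcos v hv).2 eh.symm
      have hu2 := key u' v' (hcos u' hu').1 (hcos u' hu').2 (hcos v' hv').2 (e'.symm.trans eh.symm)
      obtain rfl : u = u' := hu1.trans hu2.symm
      obtain rfl : v = v' := mul_left_cancel (mul_right_cancel (mul_left_cancel e'))
      rfl
    · rintro ⟨n, hn⟩
      obtain ⟨h, hh, eh⟩ := hx.exists_conj_of_coset hi hH hn
      refine ⟨(⟨f ⟨h, hh⟩, _, rfl⟩, ⟨f ⟨x⁻¹ * h * x⁻¹⁻¹, hi.inv.conj_mem hh⟩, _, rfl⟩), Subtype.ext ?_⟩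
      simp only [Φ, f]
      calc h * t * h⁻¹ * (x * (x⁻¹ * h * x⁻¹⁻¹ * t * (x⁻¹ * h * x⁻¹⁻¹)⁻¹) * x⁻¹) * x⁻¹
          = h * (t * (x * t * x⁻¹)) * h⁻¹ * x⁻¹ := by group
        _ = n := by rw [hxt, eh]; group
  have h1 := Nat.card_congr (Equiv.ofBijective Φ hΦ)
  rw [Nat.card_prod, hrange] at h1
  have h2 := C.card_mul_index
  have h3 : Nat.card C = Nat.card (H ⊓ centralizer ({t} : Set G) : Subgroup G) := by
    rw [show C = (H ⊓ centralizer ({t} : Set G)).subgroupOf H by simp [C]]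
    exact Nat.card_congr (subgroupOfEquivOfLe inf_le_left).toEquiv
  rw [← h1] at h2
  have h4 : Nat.card C = C.index := Nat.eq_of_mul_eq_mul_right (Nat.pos_of_ne_zero C.index_ne_zero_of_finite) h2
  rw [← h1, pow_two, ← h3, h4]

end Cfsg.Agent.SelfThree
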