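import Cfsg.Agent.Lib.SelfThree.Simple
import Cfsg.Agent.Lib.PLocal.Cores

/-!
# A group with trivial `3'`-core and a self-centralizing element of order three
-/

set_option autoImplicit false
set_option linter.style.haveILetI false
set_option linter.unusedSectionVars false

namespace Cfsg.Agent.SelfThree

open Subgroup Cfsg.Agent.Characters

universe u

variable {Q : Type u} [Group Q] [Finite Q] {x : Q}

theorem Self.card_of_normal (hx : Self x) (hn : ∀ g : Q, g * x * g⁻¹ ∈ zpowers x) :
    Nat.card Q = 3 ∨ Nat.card Q = 6 := by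
  classical
  have h := card_carrier_mul_card_centralizer x
  rw [Self.card_cent hx] at h
  have hsub : (ConjClasses.mk x).carrier ⊆ {x, x⁻¹} := by
    intro y hy
    obtain ⟨g, rfl⟩ := isConj_iff.1 (ConjClasses.mk_eq_mk_iff_isConj.1 (ConjClasses.mem_carrier_iff_mk_eq.1 hy).symm)
    rcases hx.mem_zpowers_iff.1 (hn g) with e | e | e
    · exact absurd (by simpa using e) hx.ne_one
    · exact Or.inl e
    · exact Or.inr e
  have h2 : Nat.card (ConjClasses.mk x).carrier ≤ 2 := by
    rw [Nat.card_coe_set_eq]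
    refine (Set.ncard_le_ncard hsub).trans ((Set.ncard_insert_le _ _).trans ?_)
    rw [Set.ncard_singleton]
  have h1 : 0 < Nat.card Q := Nat.card_pos
  rcases Nat.lt_or_ge (Nat.card (ConjClasses.mk x).carrier) 2 with hlt | hge
  · interval_cases hc : Nat.card (ConjClasses.mk x).carrier
    · omega
    · omega
  · omega

theorem Self.card_of_core_eq_bot (hx : Self x) (hc : Cfsg.pPrimeCore 3 Q = ⊥)
    (ih : ∀ H : Subgroup Q, x ∈ H → H ≠ ⊤ → Shape H) :
    (Nat.card Q = 3 ∨ Nat.card Q = 6) ∨
      (IsSimpleGroup Q ∧ (Nat.card Q = 60 ∨ Nat.card Q = 168)) := by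
  haveI : Fact (Nat.Prime 3) := ⟨Nat.prime_three⟩
  haveI : Nontrivial Q := ⟨⟨x, 1, hx.ne_one⟩⟩
  obtain ⟨M, hMn, -, hM, hmin⟩ := Solvable.Basics.exists_minimal_normal (N := (⊤ : Subgroup Q)) top_ne_bot
  have h3 : 3 ∣ Nat.card M := by
    by_contra h3
    exact hM (le_bot_iff.1 (hc ▸ PLocal.Cores.le_pPrimeCore (Nat.Coprime.symm (Nat.prime_three.coprime_iff_not_dvd.2 h3))))
  have hall : ∀ y : Q, orderOf y = 3 → y ∈ M := by
    obtain ⟨⟨z, hz⟩, hzo⟩ := exists_prime_orderOf_dvd_card' (G := M) 3 h3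
    rw [orderOf_mk] at hzo
    intro y hy
    obtain ⟨c, hcz⟩ := (hx.of_order hy).exists_conj hzo
    rcases hcz with e | e
    · have := hMn.conj_mem z hz c⁻¹
      rw [← e] at this
      simpa [mul_assoc] using this
    · have := inv_mem (hMn.conj_mem z hz c⁻¹)
      rw [← e] at this
      simpa [mul_assoc] using this
  have hxM : x ∈ M := hall x hx.order
  have hxm := hx.subgroup hxM
  by_cases hMc : Nat.card M = 3
  · left
    refine hx.card_of_normal fun g => ?_
    have he : M = zpowers x := (eq_of_le_of_card_ge (zpowers_le.2 hxM)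
      (by rw [hMc, Nat.card_zpowers, hx.order])).symm
    rw [← he]
    exact hMn.conj_mem x hxM g
  right
  haveI : Nontrivial M := M.nontrivial_iff_ne_bot.2 hM
  haveI hMs : IsSimpleGroup M := ⟨fun K hK => by
    haveI := hK
    by_cases h3K : 3 ∣ Nat.card K
    · right
      obtain ⟨⟨k, hk⟩, hko⟩ := exists_prime_orderOf_dvd_card' (G := K) 3 h3K
      rw [orderOf_mk] at hko
      have hKall : ∀ y : M, orderOf y = 3 → y ∈ K := by
        intro y hy
        obtain ⟨c, hcy⟩ := (hxm.of_order hko).exists_conj hy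
        rcases hcy with e | e
        · rw [← e]; exact hK.conj_mem k hk c
        · rw [← e]; exact hK.conj_mem _ (inv_mem hk) c
      set T := normalClosure {x} with hT
      have hTle : T ≤ K.map M.subtype := by
        rw [hT, normalClosure, closure_le]
        intro y hy
        obtain ⟨a, ha, hay⟩ := Group.mem_conjugatesOfSet_iff.1 hy
        rw [Set.mem_singleton_iff] at ha
        subst ha
        obtain ⟨g, rfl⟩ := isConj_iff.1 hay
        exact ⟨⟨g * a * g⁻¹, hMn.conj_mem a hxM g⟩,
          hKall _ (by rw [orderOf_mk]; exact (hx.conj g).order), rfl⟩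
      rcases hmin T normalClosure_normal (hTle.trans (map_subtype_le _)) with e | e
      · exact absurd (mem_bot.1 (e ▸ subset_normalClosure (Set.mem_singleton x))) hx.ne_one
      · rw [eq_top_iff]
        intro y _
        obtain ⟨z, hz, hzy⟩ := hTle (e.ge y.2)
        rwa [← Subtype.ext hzy]
    · left
      have h := (map_mono (f := M.subtype) (PLocal.Cores.le_pPrimeCore
        (Nat.Coprime.symm (Nat.prime_three.coprime_iff_not_dvd.2 h3K)))).trans
        (PLocal.Cores.map_subtype_pPrimeCore_le (p := 3) M)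
      rw [hc, le_bot_iff, map_eq_bot_iff_of_injective _ M.subtype_injective] at h
      exact h⟩
  have hMab : ¬ IsMulCommutative M := fun h => hMc (by
    have hle : M ≤ zpowers x := fun y hy => hx.cent y
      (congrArg Subtype.val (h.1.1 ⟨x, hxM⟩ ⟨y, hy⟩))
    rw [le_antisymm hle (zpowers_le.2 hxM), Nat.card_zpowers, hx.order])
  obtain ⟨⟨t, htM⟩, ht⟩ := hxm.exists_inverter hMab
  have ht' : t * x * t⁻¹ = x⁻¹ := congrArg Subtype.val ht
  have htop : M = ⊤ := by
    rw [eq_top_iff]
    intro g _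
    obtain ⟨⟨c, hcM⟩, hc'⟩ := hxm.exists_conj (y := ⟨g * x * g⁻¹, hMn.conj_mem x hxM g⟩)
      (by rw [orderOf_mk]; exact (hx.conj g).order)
    obtain ⟨d, hd, hdx⟩ : ∃ d ∈ M, g * x * g⁻¹ = d * x * d⁻¹ := by
      rcases hc' with e | e
      · exact ⟨c, hcM, (congrArg Subtype.val e).symm⟩
      · refine ⟨c * t, mul_mem hcM htM, (congrArg Subtype.val e).symm.trans ?_⟩
        change c * x⁻¹ * c⁻¹ = _
        rw [← ht']; group
    have hz : d⁻¹ * g ∈ zpowers x := hx.cent _ (by
      calc x * (d⁻¹ * g) = d⁻¹ * (d * x * d⁻¹) * g := by group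
        _ = d⁻¹ * (g * x * g⁻¹) * g := by rw [hdx]
        _ = _ := by group)
    have := mul_mem hd (zpowers_le.2 hxM hz)
    rwa [mul_inv_cancel_left] at this
  haveI hQs : IsSimpleGroup Q := ⟨fun L hL => by
    have := hmin L hL (htop ▸ le_top)
    rwa [htop] at this⟩
  refine ⟨hQs, Self.card_simple hx (fun h => hMab ⟨⟨fun a b => Subtype.ext (h.1.1 (a : Q) b)⟩⟩) ih⟩

end Cfsg.Agent.SelfThree
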