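import Cfsg.Agent.Lib.SelfThree.ShapeA

/-!
# Maximal invariant subgroups of order prime to three in a minimal counterexample
-/

set_option autoImplicit false
set_option linter.style.haveILetI false
set_option linter.unusedSectionVars false

namespace Cfsg.Agent.SelfThree

open Subgroup

universe u

/-- The conclusion of the theorem, for use in the induction. -/
def Shape (G : Type u) [Group G] : Prop :=
  ∃ (K : Subgroup G) (_ : K.Normal), ¬ 3 ∣ Nat.card K ∧
    ((K.index = 3 ∨ K.index = 6) ∨ ShapeA K ∨ (K = ⊥ ∧ IsSimpleGroup G ∧ Nat.card G = 168))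

variable {G : Type u} [Group G] [Finite G] {x t : G}

/-- A subgroup maximal among the invariant ones of order prime to three. -/
structure MaxInv (x : G) (M : Subgroup G) : Prop where
  inv : Inv x M
  not3 : ¬ 3 ∣ Nat.card M
  max : ∀ L : Subgroup G, Inv x L → ¬ 3 ∣ Nat.card L → M ≤ L → L = M

theorem exists_maxInv {L : Subgroup G} (hi : Inv x L) (h3 : ¬ 3 ∣ Nat.card L) :
    ∃ M, MaxInv x M ∧ L ≤ M := by
  obtain ⟨M, ⟨⟨hMi, hM3⟩, hLM⟩, hmax⟩ := (Set.toFinite
    {M : Subgroup G | (Inv x M ∧ ¬ 3 ∣ Nat.card M) ∧ L ≤ M}).exists_maximalFor id _ ⟨L, ⟨hi, h3⟩, le_rfl⟩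
  exact ⟨M, ⟨hMi, hM3, fun L' hi' h3' hle =>
    le_antisymm (hmax ⟨⟨hi', h3'⟩, hLM.trans hle⟩ hle) hle⟩, hLM⟩

variable (hx : Self x)

/-- A subgroup normalizing `M` and of order prime to three lies in `M`. -/
theorem MaxInv.le_of_normalizes {M L : Subgroup G} (hM : MaxInv x M) (hi : Inv x L)
    (h3 : ¬ 3 ∣ Nat.card L) (hn : L ≤ normalizer (M : Set G)) : L ≤ M := by
  set N := normalizer (M : Set G) with hN
  set Q := (L.subgroupOf N).map (QuotientGroup.mk' (M.subgroupOf N)) with hQ
  set P := (Q.comap (QuotientGroup.mk' (M.subgroupOf N))).map N.subtype with hP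
  have hiP : Inv x P := le_normalizer_map N.subtype ⟨⟨x, hM.inv⟩,
    inv_comap (inv_map (QuotientGroup.mk'_surjective _) (inv_comap (f := N.subtype) hi)), rfl⟩
  have h3P : ¬ 3 ∣ Nat.card P := by
    rw [hP, card_map_of_injective N.subtype_injective, card_comap_mk,
      Nat.card_congr (subgroupOfEquivOfLe le_normalizer).toEquiv]
    refine fun h => (Nat.prime_three.dvd_mul.1 h).elim hM.not3 fun hq => h3 ?_
    rw [← Nat.card_congr (subgroupOfEquivOfLe hn).toEquiv]
    exact hq.trans (card_map_dvd _ _)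
  have hMP : M ≤ P := fun g hg => ⟨⟨g, le_normalizer hg⟩,
    QuotientGroup.le_comap_mk' _ _ (mem_subgroupOf.2 hg), rfl⟩
  intro g hg
  rw [← hM.max P hiP h3P hMP]
  exact ⟨⟨g, hn hg⟩, mem_comap.2 (mem_map_of_mem _ (mem_subgroupOf.2 hg)), rfl⟩

include hx

/-- The facts of a group of the first shape, seen inside `G`. -/
theorem le_of_shape_one {H : Subgroup G} (hxH : x ∈ H) {K : Subgroup H} [K.Normal]
    (hK : K.index = 3 ∨ K.index = 6) (h3K : ¬ 3 ∣ Nat.card K) {L : Subgroup G} (hLH : L ≤ H)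
    (hi : Inv x L) (h3 : ¬ 3 ∣ Nat.card L) : L ≤ K.map H.subtype := by
  have hxs := hx.subgroup hxH
  have hiL : Inv (⟨x, hxH⟩ : H) (L.subgroupOf H) := inv_comap (f := H.subtype) hi
  have h3L : ¬ 3 ∣ Nat.card (L.subgroupOf H) := by
    rwa [Nat.card_congr (subgroupOfEquivOfLe hLH).toEquiv]
  have h3' : ¬ 3 ∣ Nat.card ((L.subgroupOf H).map (QuotientGroup.mk' K)) := fun h =>
    h3L (h.trans (card_map_dvd _ _))
  have hmod := (hxs.quotient K h3K).card_mod_three (inv_map (QuotientGroup.mk'_surjective K) hiL) h3'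
  have hd := card_subgroup_dvd_card ((L.subgroupOf H).map (QuotientGroup.mk' K))
  rw [← index_eq_card] at hd
  have h1 : Nat.card ((L.subgroupOf H).map (QuotientGroup.mk' K)) = 1 := by
    have hle : Nat.card ((L.subgroupOf H).map (QuotientGroup.mk' K)) ≤ 6 := by
      refine le_trans (Nat.le_of_dvd (Nat.pos_of_ne_zero index_ne_zero_of_finite) hd) ?_
      omega
    generalize Nat.card ((L.subgroupOf H).map (QuotientGroup.mk' K)) = n at hmod hd h3' hle
    rcases hK with e | e <;> rw [e] at hd <;> interval_cases n <;> omega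
  rw [card_eq_one, Subgroup.map_eq_bot_iff, QuotientGroup.ker_mk'] at h1
  intro g hg
  exact ⟨⟨g, hLH hg⟩, h1 (mem_subgroupOf.2 hg), rfl⟩

/-- The facts of a group of the second shape, seen inside `G`. -/
theorem facts_of_shapeA {H : Subgroup G} (hxH : x ∈ H) {K : Subgroup H} [K.Normal] (S : ShapeA K) :
    ∃ T U : Subgroup G, T ≠ U ∧
      (∀ W, W = T ∨ W = U → K.map H.subtype ≤ W ∧ W ≤ H ∧ Inv x W ∧
        Nat.card W = 4 * Nat.card (K.map H.subtype) ∧ ¬ 3 ∣ Nat.card W) ∧
      (∀ L : Subgroup G, L ≤ H → Inv x L → ¬ 3 ∣ Nat.card L → L ≤ K.map H.subtype ∨ L ≤ T ∨ L ≤ U) ∧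
      (∀ t ∈ H, t * x * t⁻¹ = x⁻¹ → ¬ Inv t T ∧ ¬ Inv t U) ∧
      (∀ W, W = T ∨ W = U → ∀ v ∈ W, v ∉ K.map H.subtype → Nat.card (K.map H.subtype) =
        Nat.card ((K.map H.subtype) ⊓ centralizer ({v} : Set G) : Subgroup G) ^ 2) := by
  have hxs := hx.subgroup hxH
  obtain ⟨T, U, hne, hprop, hall, hswap⟩ := S.two_tops hxs
  have hcK : Nat.card (K.map H.subtype) = Nat.card K := card_map_of_injective H.subtype_injective
  have hW : ∀ W, W = T ∨ W = U → K.map H.subtype ≤ W.map H.subtype ∧ W.map H.subtype ≤ H ∧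
      Inv x (W.map H.subtype) ∧ Nat.card (W.map H.subtype) = 4 * Nat.card (K.map H.subtype) ∧
      ¬ 3 ∣ Nat.card (W.map H.subtype) := fun W hW => by
    obtain ⟨h1, h2, h3⟩ := hprop W hW
    refine ⟨map_mono h1, map_subtype_le W, le_normalizer_map H.subtype ⟨_, h2, rfl⟩, ?_, ?_⟩
    · rw [card_map_of_injective H.subtype_injective, h3, hcK]
    · rw [card_map_of_injective H.subtype_injective, h3]
      exact fun h => (Nat.prime_three.dvd_mul.1 h).elim (by norm_num) S.not3
  refine ⟨T.map H.subtype, U.map H.subtype, fun e => hne (map_injective H.subtype_injective e), ?_, ?_, ?_, ?_⟩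
  · rintro W (rfl | rfl)
    exacts [hW T (Or.inl rfl), hW U (Or.inr rfl)]
  · intro L hLH hi h3
    have hLe : (L.subgroupOf H).map H.subtype = L := by
      rw [subgroupOf_map_subtype, inf_of_le_left hLH]
    rw [← hLe]
    rcases hall (L.subgroupOf H) (inv_comap (f := H.subtype) hi)
      (by rwa [Nat.card_congr (subgroupOfEquivOfLe hLH).toEquiv]) with h | h | h
    exacts [Or.inl (map_mono h), Or.inr (Or.inl (map_mono h)), Or.inr (Or.inr (map_mono h))]
  · intro t htH ht
    refine ⟨fun hti => (hswap ⟨t, htH⟩ (Subtype.ext ht)).1 ?_, fun hti => (hswap ⟨t, htH⟩ (Subtype.ext ht)).2 ?_⟩ <;>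
    · have := inv_comap (f := H.subtype) (y := ⟨t, htH⟩) hti
      rwa [comap_map_eq_self_of_injective H.subtype_injective] at this
  · intro W hW' v hv hvK
    obtain ⟨W₀, hW₀, rfl⟩ : ∃ W₀, (W₀ = T ∨ W₀ = U) ∧ W = W₀.map H.subtype := by
      rcases hW' with rfl | rfl
      exacts [⟨T, Or.inl rfl, rfl⟩, ⟨U, Or.inr rfl, rfl⟩]
    obtain ⟨v, hv, rfl⟩ := hv
    have h := S.card_fixed hxs (hprop W₀ hW₀).2.1 (by
      rw [(hprop W₀ hW₀).2.2]
      exact fun h => (Nat.prime_three.dvd_mul.1 h).elim (by norm_num) S.not3) hv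
      (fun h => hvK (mem_map_of_mem _ h))
    rw [hcK, h]
    congr 1
    rw [← card_map_of_injective (K := K ⊓ centralizer ({v} : Set H)) H.subtype_injective]
    congr 2
    ext z
    simp only [mem_map, mem_inf, mem_centralizer_singleton_iff]
    constructor
    · rintro ⟨z, ⟨hz, hc⟩, rfl⟩
      exact ⟨⟨z, hz, rfl⟩, congrArg Subtype.val hc⟩
    · rintro ⟨⟨z, hz, rfl⟩, hc⟩
      exact ⟨z, ⟨hz, Subtype.ext hc⟩, rfl⟩

variable [IsSimpleGroup G] (hG : ¬ IsMulCommutative G)
  (hsh : ∀ H : Subgroup G, x ∈ H → H ≠ ⊤ → Shape H)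

include hG in
omit hx in
theorem normalizer_ne_top_of_ne_bot {D : Subgroup G} (hD : D ≠ ⊥) (hD3 : ¬ 3 ∣ Nat.card D)
    (h3 : 3 ∣ Nat.card G) : normalizer (D : Set G) ≠ ⊤ := by
  intro e
  rcases (normalizer_eq_top_iff.1 e).eq_bot_or_eq_top with h | h
  · exact hD h
  · exact hD3 (by rw [h, card_top]; exact h3)

include hG hsh

/-- A characteristic subgroup of `M` large enough has the normalizer of `M`. -/
theorem MaxInv.normalizer_char {M : Subgroup G} (hM : MaxInv x M) (P : Subgroup M) [P.Characteristic]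
    (hP : P ≠ ⊥)
    (hfull : ∀ K : Subgroup G, K ≤ M → P.map M.subtype ≤ K → (∀ k ∈ K, k ^ 2 = 1) →
      Nat.card M = 4 * Nat.card K → False) :
    normalizer ((P.map M.subtype : Subgroup G) : Set G) = normalizer (M : Set G) ∧
      (Nat.card (normalizer (M : Set G)) = 3 * Nat.card M ∨
        Nat.card (normalizer (M : Set G)) = 6 * Nat.card M) := by
  set D : Subgroup G := P.map M.subtype with hD
  have hD0 : D ≠ ⊥ := fun e => hP ((map_eq_bot_iff_of_injective _ M.subtype_injective).1 e)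
  have hDM : D ≤ M := map_subtype_le P
  have hD3 : ¬ 3 ∣ Nat.card D := fun h => hM.not3 (h.trans (card_dvd_of_le hDM))
  have hle : normalizer (M : Set G) ≤ normalizer (D : Set G) := fun g hg => Inv.map_char hg P
  set H := normalizer (D : Set G) with hH
  have hHne : H ≠ ⊤ := normalizer_ne_top_of_ne_bot hG hD0 hD3 hx.three_once.1
  have hxH : x ∈ H := hle hM.inv
  have hMH : M ≤ H := le_normalizer.trans hle
  obtain ⟨K, hKn, hK3, hcases⟩ := hsh H hxH hHne
  have hDn : (D.subgroupOf H).Normal := normal_in_normalizer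
  rcases hcases with hI | hA | ⟨-, hs, h168⟩
  · have hMK := le_of_shape_one hx hxH hI hK3 hMH hM.inv hM.not3
    have hKM : K.map H.subtype = M := hM.max _
      (le_normalizer_map H.subtype ⟨⟨x, hxH⟩, by rw [normalizer_eq_top]; exact mem_top _, rfl⟩)
      (by rwa [card_map_of_injective H.subtype_injective]) hMK
    have hle' : H ≤ normalizer (M : Set G) := fun g hg => by
      rw [← hKM]
      exact le_normalizer_map H.subtype ⟨⟨g, hg⟩, by rw [normalizer_eq_top]; exact mem_top _, rfl⟩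
    have heq : H = normalizer (M : Set G) := le_antisymm hle' hle
    refine ⟨heq, ?_⟩
    have h := card_mul_index K
    rw [← card_map_of_injective (K := K) H.subtype_injective, hKM] at h
    rw [← heq]
    rcases hI with e | e <;> rw [e] at h
    · left; rw [← h, mul_comm]
    · right; rw [← h, mul_comm]
  · exfalso
    obtain ⟨T, U, -, hW, hall, -, -⟩ := facts_of_shapeA hx hxH hA
    have hDK : D ≤ K.map H.subtype := by
      haveI := hA.simple
      rcases (hDn.map _ (QuotientGroup.mk'_surjective K)).eq_bot_or_eq_top with e | e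
      · intro g hg
        rw [Subgroup.map_eq_bot_iff, QuotientGroup.ker_mk'] at e
        exact ⟨⟨g, le_normalizer hg⟩, e (mem_subgroupOf.2 hg), rfl⟩
      · exfalso
        have h1 : Nat.card ↥((D.subgroupOf H).map (QuotientGroup.mk' K)) ∣ Nat.card (D.subgroupOf H) :=
          card_map_dvd _ _
        rw [e, card_top, ← index_eq_card, hA.index,
          Nat.card_congr (subgroupOfEquivOfLe le_normalizer).toEquiv] at h1
        exact hD3 ((show 3 ∣ 60 by norm_num).trans h1)
    have hWM : ∃ W, (W = T ∨ W = U) ∧ M ≤ W := by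
      rcases hall M hMH hM.inv hM.not3 with h | h | h
      · exact ⟨T, Or.inl rfl, h.trans (hW T (Or.inl rfl)).1⟩
      · exact ⟨T, Or.inl rfl, h⟩
      · exact ⟨U, Or.inr rfl, h⟩
    obtain ⟨W, hW', hMW⟩ := hWM
    obtain ⟨h1, -, h3, h4, h5⟩ := hW W hW'
    have hWe : W = M := hM.max W h3 h5 hMW
    subst hWe
    refine hfull _ h1 hDK ?_ h4
    rintro _ ⟨k, hk, rfl⟩
    rw [← map_pow, hA.sq k hk, map_one]
  · exfalso
    rcases hDn.eq_bot_or_eq_top with e | e
    · rw [subgroupOf_eq_bot] at e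
      exact hD0 (disjoint_iff.1 e ▸ (inf_of_le_left le_normalizer).symm)
    · rw [subgroupOf_eq_top] at e
      have hcard : Nat.card D = 168 := by rw [← h168, le_antisymm e le_normalizer]
      exact hD3 (by rw [hcard]; norm_num)

/-- The normalizer of a maximal invariant subgroup. -/
theorem MaxInv.card_normalizer {M : Subgroup G} (hM : MaxInv x M) (h1 : M ≠ ⊥) :
    Nat.card (normalizer (M : Set G)) = 3 * Nat.card M ∨
      Nat.card (normalizer (M : Set G)) = 6 * Nat.card M := by
  refine (hM.normalizer_char hx hG hsh (⊤ : Subgroup M) ?_ ?_).2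
  · intro e
    haveI : Nontrivial M := M.nontrivial_iff_ne_bot.2 h1
    exact top_ne_bot e
  · intro K _ hMK _ h4
    rw [← MonoidHom.range_eq_map, range_subtype] at hMK
    have h := Nat.le_of_dvd Nat.card_pos (card_dvd_of_le hMK)
    have : 0 < Nat.card K := Nat.card_pos
    omega

/-- Sylow subgroups of `G` inside `M`. -/
theorem MaxInv.exists_sylow {M : Subgroup G} (hM : MaxInv x M) {p : ℕ} [hp : Fact p.Prime]
    (hpM : p ∣ Nat.card M) (hk : p = 2 → Nat.card (normalizer (M : Set G)) = 3 * Nat.card M) :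
    ∃ P : Sylow p G, (P : Subgroup G) ≤ M ∧ normalizer ((P : Subgroup G) : Set G) = normalizer (M : Set G) := by
  haveI := hx.isNilpotent hM.inv hM.not3
  have P₀ : Sylow p M := default
  haveI hPn : (P₀ : Subgroup M).Normal := inferInstance
  haveI : (P₀ : Subgroup M).Characteristic := Sylow.characteristic_of_normal P₀ hPn
  have hP0 : (P₀ : Subgroup M) ≠ ⊥ := SmallSimple.Basic.sylow_ne_bot hpM P₀
  have hp3 : p ≠ 3 := fun e => hM.not3 (e ▸ hpM)
  obtain ⟨hN, hcard⟩ := hM.normalizer_char hx hG hsh (P₀ : Subgroup M) hP0 (by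
    intro K hKM hPK hsq h4
    have hK2 : IsPGroup 2 K := fun k => ⟨1, Subtype.ext (by simpa using hsq k k.2)⟩
    obtain ⟨n, hn⟩ := (IsPGroup.iff_card (p := 2) (G := K)).1 hK2
    have hpdvd : p ∣ Nat.card K := by
      refine Nat.dvd_trans ?_ (card_dvd_of_le hPK)
      rw [card_map_of_injective M.subtype_injective]
      exact (P₀.2.card_eq_or_dvd).resolve_left (fun e => hP0 (card_eq_one.1 e))
    rw [hn] at hpdvd
    have hp2 : p = 2 := (Nat.prime_dvd_prime_iff_eq hp.out Nat.prime_two).1 (hp.out.dvd_of_dvd_pow hpdvd)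
    subst hp2
    have htop : (P₀ : Subgroup M) = ⊤ := by
      refine P₀.3 ?_ le_top |>.symm
      exact IsPGroup.of_card (n := n + 2) (by rw [card_top, h4, hn]; ring)
    rw [htop, ← MonoidHom.range_eq_map, range_subtype] at hPK
    have h := Nat.le_of_dvd Nat.card_pos (card_dvd_of_le hPK)
    have : 0 < Nat.card K := Nat.card_pos
    omega)
  set D : Subgroup G := (P₀ : Subgroup M).map M.subtype
  obtain ⟨R, hR⟩ := (P₀.2.map M.subtype).exists_le_sylow
  refine ⟨R, ?_, ?_⟩
  all_goals
    have hRD : (R : Subgroup G) = D := by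
      by_contra hne
      haveI : Group.IsNilpotent (R : Subgroup G) := R.2.isNilpotent
      have hlt : D.subgroupOf (R : Subgroup G) < ⊤ := lt_top_iff_ne_top.2 fun e =>
        hne (le_antisymm (subgroupOf_eq_top.1 e) hR)
      obtain ⟨r, hr, hrD⟩ := SetLike.exists_of_lt ((Group.normalizerCondition_of_isNilpotent _ hlt))
      have hrN : (r : G) ∈ normalizer (D : Set G) := by
        refine mem_normalizer_iff.2 fun g => ⟨fun hg => ?_, fun hg => ?_⟩
        · exact mem_subgroupOf.1 ((mem_normalizer_iff.1 hr ⟨g, hR hg⟩).1 hg)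
        · have hgR : g ∈ (R : Subgroup G) := by
            have := mul_mem (mul_mem (inv_mem r.2) (hR hg)) r.2
            simpa [mul_assoc] using this
          exact (mem_normalizer_iff.1 hr ⟨g, hgR⟩).2 (mem_subgroupOf.2 hg)
      rw [hN] at hrN
      have hbig : Nat.card D * p ∣ Nat.card (normalizer (M : Set G)) := by
        set E : Subgroup G := (R : Subgroup G) ⊓ normalizer (M : Set G)
        have hDE : D < E := lt_of_le_of_ne (le_inf hR ((map_subtype_le _).trans le_normalizer))
          (fun e => hrD (mem_subgroupOf.2 (e ▸ (⟨r.2, hrN⟩ : (r : G) ∈ E))))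
        obtain ⟨a, ha⟩ := IsPGroup.iff_card.1 (P₀.2.map M.subtype : IsPGroup p D)
        obtain ⟨b, hb⟩ := IsPGroup.iff_card.1 (R.2.to_le (inf_le_left : E ≤ _))
        have hab : a < b := by
          by_contra hge
          exact hDE.ne (eq_of_le_of_card_ge hDE.le (by rw [ha, hb]; exact Nat.pow_le_pow_right hp.out.pos (not_lt.1 hge)))
        refine Nat.dvd_trans ?_ (card_dvd_of_le (inf_le_right : E ≤ _))
        rw [ha, hb, ← pow_succ]
        exact pow_dvd_pow p hab
      have hDc : Nat.card D = Nat.card (P₀ : Subgroup M) := card_map_of_injective M.subtype_injective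
      have hm := card_mul_index (P₀ : Subgroup M)
      have hnd := P₀.not_dvd_index
      have hpos : 0 < Nat.card (P₀ : Subgroup M) := Nat.card_pos
      have key : ∀ k, Nat.card (normalizer (M : Set G)) = k * Nat.card M → p ∣ k := fun k e => by
        rw [e, hDc, ← hm, mul_left_comm] at hbig
        exact (hp.out.dvd_mul.1 (Nat.dvd_of_mul_dvd_mul_left hpos hbig)).resolve_right hnd
      rcases hcard with e | e
      · exact hp3 ((Nat.prime_dvd_prime_iff_eq hp.out Nat.prime_three).1 (key 3 e))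
      · rcases hp.out.dvd_mul.1 (show p ∣ 2 * 3 from key 6 e) with h | h
        · have h2 := (Nat.prime_dvd_prime_iff_eq hp.out Nat.prime_two).1 h
          have := hk h2
          have : 0 < Nat.card M := Nat.card_pos
          omega
        · exact hp3 ((Nat.prime_dvd_prime_iff_eq hp.out Nat.prime_three).1 h)
    rw [hRD]
  · exact map_subtype_le _
  · exact hN

/-- Two maximal invariant subgroups with a common Sylow prime are conjugate. -/
theorem MaxInv.conjugate {M M' : Subgroup G} (hM : MaxInv x M) (hM' : MaxInv x M') {p : ℕ} [Fact p.Prime]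
    (hpM : p ∣ Nat.card M) (hpM' : p ∣ Nat.card M')
    (hk : p = 2 → Nat.card (normalizer (M : Set G)) = 3 * Nat.card M)
    (hk' : p = 2 → Nat.card (normalizer (M' : Set G)) = 3 * Nat.card M') :
    ∃ g : G, M.map (MulAut.conj g).toMonoidHom = M' := by
  obtain ⟨P, hPM, hPN⟩ := hM.exists_sylow hx hG hsh hpM hk
  obtain ⟨P', hPM', hPN'⟩ := hM'.exists_sylow hx hG hsh hpM' hk'
  obtain ⟨g, hg⟩ := MulAction.exists_smul_eq G P P'
  refine ⟨g, ?_⟩
  set N := M.map (MulAut.conj g).toMonoidHom with hN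
  have hNN : normalizer (N : Set G) = normalizer (M' : Set G) := by
    rw [← hPN', ← hg, Sylow.coe_subgroup_smul]
    have e : ∀ S : Subgroup G, (normalizer (S : Set G)).map (MulAut.conj g).toMonoidHom =
        normalizer ((S.map (MulAut.conj g).toMonoidHom : Subgroup G) : Set G) := fun S =>
      map_normalizer_eq_of_bijective S (f := (MulAut.conj g).toMonoidHom) (MulAut.conj g).bijective
    rw [hN, ← e, ← hPN, e]
    rfl
  have hN3 : ¬ 3 ∣ Nat.card N := by
    rw [hN, card_map_of_injective (MulAut.conj g).injective]; exact hM.not3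
  have hiN : Inv x N := by rw [Inv, hNN]; exact hM'.inv
  have hle : N ≤ M' := hM'.le_of_normalizes hiN hN3 (hNN ▸ le_normalizer)
  refine le_antisymm hle ?_
  -- the same from the other side
  intro m hm
  have hN' : M'.map (MulAut.conj g⁻¹).toMonoidHom ≤ M := by
    have hback : N.map (MulAut.conj g⁻¹).toMonoidHom = M := by
      rw [hN, Subgroup.map_map]
      convert Subgroup.map_id M
      ext; simp [mul_assoc]
    have hnn : normalizer ((M'.map (MulAut.conj g⁻¹).toMonoidHom : Subgroup G) : Set G) = normalizer (M : Set G) := by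
      rw [← map_normalizer_eq_of_bijective M' (f := (MulAut.conj g⁻¹).toMonoidHom) (MulAut.conj g⁻¹).bijective, ← hNN,
        map_normalizer_eq_of_bijective N (f := (MulAut.conj g⁻¹).toMonoidHom) (MulAut.conj g⁻¹).bijective, hback]
    refine hM.le_of_normalizes (by rw [Inv, hnn]; exact hM.inv)
      (by rw [card_map_of_injective (MulAut.conj g⁻¹).injective]; exact hM'.not3) (hnn ▸ le_normalizer)
  refine ⟨g⁻¹ * m * g⁻¹⁻¹, hN' ⟨m, hm, rfl⟩, by simp [mul_assoc]⟩

/-- The elements conjugating `M` to an invariant subgroup. -/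
theorem MaxInv.conj_cases {M : Subgroup G} (hM : MaxInv x M) (ht : t * x * t⁻¹ = x⁻¹) {g : G}
    (hg : Inv x (M.map (MulAut.conj g).toMonoidHom)) :
    M.map (MulAut.conj g).toMonoidHom = M ∨
      M.map (MulAut.conj g).toMonoidHom = M.map (MulAut.conj t).toMonoidHom := by
  have hgx : g⁻¹ * x * g ∈ normalizer (M : Set G) := by
    rw [Inv, ← map_normalizer_eq_of_bijective M (f := (MulAut.conj g).toMonoidHom) (MulAut.conj g).bijective] at hg
    obtain ⟨y, hy, e⟩ := hg
    have : y = g⁻¹ * x * g := by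
      have e' : g * y * g⁻¹ = x := e
      rw [← e']; group
    exact this ▸ hy
  have hxs := hx.subgroup (H := normalizer (M : Set G)) hM.inv
  have ho : orderOf (⟨g⁻¹ * x * g, hgx⟩ : normalizer (M : Set G)) = 3 := by
    rw [orderOf_mk]
    have := (hx.conj g⁻¹).order
    rwa [inv_inv] at this
  obtain ⟨⟨n, hn⟩, hn'⟩ := hxs.exists_conj ho
  have hgn : g * n * x * (g * n)⁻¹ = x ∨ g * n * x⁻¹ * (g * n)⁻¹ = x := by
    rcases hn' with e | e
    · left
      have e' : n * x * n⁻¹ = g⁻¹ * x * g := congrArg Subtype.val e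
      calc g * n * x * (g * n)⁻¹ = g * (n * x * n⁻¹) * g⁻¹ := by group
        _ = x := by rw [e']; group
    · right
      have e' : n * x⁻¹ * n⁻¹ = g⁻¹ * x * g := congrArg Subtype.val e
      calc g * n * x⁻¹ * (g * n)⁻¹ = g * (n * x⁻¹ * n⁻¹) * g⁻¹ := by group
        _ = x := by rw [e']; group
  have hfix : ∀ y : G, y ∈ normalizer (M : Set G) → M.map (MulAut.conj y).toMonoidHom = M := fun y hy => by
    refine le_antisymm ?_ fun k hk => ⟨y⁻¹ * k * y, ?_, by simp [mul_assoc]⟩
    · rintro _ ⟨k, hk, rfl⟩; exact (mem_normalizer_iff.1 hy k).1 hk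
    · have := (mem_normalizer_iff.1 (inv_mem hy) k).1 hk
      simpa using this
  have hcomp : ∀ a b : G, M.map (MulAut.conj (a * b)).toMonoidHom =
      (M.map (MulAut.conj b).toMonoidHom).map (MulAut.conj a).toMonoidHom := fun a b => by
    rw [Subgroup.map_map]; congr 1; ext; simp [mul_assoc]
  rcases hgn with e | e
  · left
    have hz := hx.cent (g * n) (mul_inv_eq_iff_eq_mul.1 e).symm
    have hzM : g * n ∈ normalizer (M : Set G) := (zpowers_le.2 hM.inv) hz
    exact hfix g (by have := mul_mem hzM (inv_mem hn); rwa [mul_inv_cancel_right] at this)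
  · right
    have htt := hx.sq_eq_one ht
    have hz := hx.cent (t * (g * n)) (by
      have e2 : (g * n) * x * (g * n)⁻¹ = x⁻¹ := by
        calc (g * n) * x * (g * n)⁻¹ = (g * n * x⁻¹ * (g * n)⁻¹)⁻¹ := by group
          _ = x⁻¹ := by rw [e]
      calc x * (t * (g * n)) = (t * x * t⁻¹)⁻¹ * (t * (g * n)) := by rw [ht, inv_inv]
        _ = t * x⁻¹ * (g * n) := by group
        _ = t * ((g * n) * x * (g * n)⁻¹) * (g * n) := by rw [e2]
        _ = _ := by group)
    have hzM : t * (g * n) ∈ normalizer (M : Set G) := (zpowers_le.2 hM.inv) hz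
    have htgN : t * g ∈ normalizer (M : Set G) := by
      have := mul_mem hzM (inv_mem hn)
      rwa [← mul_assoc, mul_inv_cancel_right] at this
    rw [show g = t * (t * g) by rw [← mul_assoc, htt, one_mul], hcomp, hfix _ htgN]

/-- With a normalizer of index six the involution normalizes `M`. -/
theorem MaxInv.inv_t {M : Subgroup G} (hM : MaxInv x M) (ht : t * x * t⁻¹ = x⁻¹)
    (h6 : Nat.card (normalizer (M : Set G)) = 6 * Nat.card M) : Inv t M := by
  set N := normalizer (M : Set G) with hNdef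
  haveI : (M.subgroupOf N).Normal := normal_in_normalizer
  have hxs := hx.subgroup (H := N) hM.inv
  have h3 : ¬ 3 ∣ Nat.card (M.subgroupOf N) := by
    rw [Nat.card_congr (subgroupOfEquivOfLe le_normalizer).toEquiv]; exact hM.not3
  have hq := hxs.quotient (M.subgroupOf N) h3
  have hq6 : Nat.card (N ⧸ M.subgroupOf N) = 6 := by
    have := card_eq_card_quotient_mul_card_subgroup (M.subgroupOf N)
    rw [h6, Nat.card_congr (subgroupOfEquivOfLe le_normalizer).toEquiv] at this
    exact (Nat.eq_of_mul_eq_mul_right Nat.card_pos this).symm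
  set y := QuotientGroup.mk' (M.subgroupOf N) (⟨x, hM.inv⟩ : N) with hy
  have hidx : (zpowers y).index = 2 := by
    have := card_mul_index (zpowers y)
    rw [Nat.card_zpowers, hq.order, hq6] at this
    omega
  haveI := Subgroup.normal_of_index_eq_two hidx
  obtain ⟨s, hs⟩ : ∃ s, s ∉ zpowers y := by
    by_contra hall
    push Not at hall
    rw [(eq_top_iff' _).2 hall, index_top] at hidx
    omega
  have hsy : s * y * s⁻¹ = y⁻¹ := by
    rcases hq.mem_zpowers_iff.1 ((inferInstance : (zpowers y).Normal).conj_mem y (mem_zpowers y) s) with e | e | e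
    · exact absurd (conj_eq_one_iff.1 e) hq.ne_one
    · exact absurd (hq.cent s (mul_inv_eq_iff_eq_mul.1 e).symm) hs
    · exact e
  obtain ⟨s, rfl⟩ := QuotientGroup.mk'_surjective (M.subgroupOf N) s
  have hsx : (s : G) * x * (s : G)⁻¹ * x ∈ M := by
    have h : s * ⟨x, hM.inv⟩ * s⁻¹ * ⟨x, hM.inv⟩ ∈ M.subgroupOf N := (QuotientGroup.eq_one_iff _).1 (by
      change QuotientGroup.mk' (M.subgroupOf N) _ = 1
      rw [map_mul, map_mul, map_mul, map_inv, ← hy, hsy, inv_mul_cancel])
    exact mem_subgroupOf.1 h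
  obtain ⟨h, hh, e⟩ := hx.inv.exists_conj_of_coset hM.inv.inv hM.not3 hsx
  rw [mul_inv_cancel_right] at e
  have hinv : h⁻¹ * s * x * (h⁻¹ * (s : G))⁻¹ = x⁻¹ := by
    calc h⁻¹ * s * x * (h⁻¹ * (s : G))⁻¹ = h⁻¹ * ((s : G) * x * (s : G)⁻¹) * h := by group
      _ = x⁻¹ := by rw [← e]; group
  set s' := h⁻¹ * (s : G)
  have hs'N : s' ∈ N := mul_mem (inv_mem (le_normalizer hh)) s.2
  have hz := hx.cent (t⁻¹ * s') (by
    have h1 : t⁻¹ * x⁻¹ * t = x := by rw [← ht]; group
    calc x * (t⁻¹ * s') = (t⁻¹ * x⁻¹ * t) * (t⁻¹ * s') := by rw [h1]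
      _ = t⁻¹ * (s' * x * s'⁻¹) * s' := by rw [hinv]; group
      _ = _ := by group)
  have hzN : t⁻¹ * s' ∈ N := (zpowers_le.2 hM.inv) hz
  have := mul_mem hs'N (inv_mem hzN)
  rwa [mul_inv_rev, inv_inv, mul_inv_cancel_left] at this

/-- Inside `M` an elementary subgroup `K` with `N(K)` of the second shape forces `M` to be small. -/
theorem MaxInv.eq_top_part {M T K : Subgroup G} (hM : MaxInv x M) (hKT : K ≤ T) (hT : Inv x T)
    (hT4 : Nat.card T = 4 * Nat.card K) (hTM : T ≤ M) (hMN : M ⊓ normalizer (K : Set G) = T)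
    (hK : ∀ k ∈ K, k ^ 2 = 1) (hr4 : 16 ≤ Nat.card K)
    (hfix : ∀ v ∈ T, v ∉ K → Nat.card K = Nat.card (K ⊓ centralizer ({v} : Set G) : Subgroup G) ^ 2) :
    M = T := by
  classical
  haveI := hx.isNilpotent hM.inv hM.not3
  by_contra hne
  have hlt : T.subgroupOf M < ⊤ := lt_top_iff_ne_top.2 fun e =>
    hne (le_antisymm (subgroupOf_eq_top.1 e) hTM)
  have hgrow := Group.normalizerCondition_of_isNilpotent _ hlt
  set E := (normalizer ((T.subgroupOf M : Subgroup M) : Set M)).map M.subtype with hE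
  have hTE : T < E := by
    have := (map_lt_map_iff_of_injective M.subtype_injective).2 hgrow
    rwa [subgroupOf_map_subtype, inf_of_le_left hTM, ← hE] at this
  have hEM : E ≤ M := map_subtype_le _
  have hEi : Inv x E := by
    refine mem_normalizer_iff.2 fun g => ?_
    have key : ∀ y : G, Inv y M → Inv y T → ∀ g ∈ E, y * g * y⁻¹ ∈ E := by
      rintro y hyM hyT _ ⟨g, hg, rfl⟩
      refine ⟨⟨y * g * y⁻¹, hyM.conj_mem g.2⟩, mem_normalizer_iff.2 fun k => ?_, rfl⟩
      simp only [mem_subgroupOf, Subgroup.coe_mul, Subgroup.coe_inv]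
      have hgT : (g : G) ∈ normalizer (T : Set G) := by
        refine mem_normalizer_iff.2 fun z => ⟨fun hz => ?_, fun hz => ?_⟩
        · exact mem_subgroupOf.1 ((mem_normalizer_iff.1 hg ⟨z, hTM hz⟩).1 hz)
        · have hzM : z ∈ M := by
            have := mul_mem (mul_mem (inv_mem g.2) (hTM hz)) g.2
            simpa [mul_assoc] using this
          exact (mem_normalizer_iff.1 hg ⟨z, hzM⟩).2 (mem_subgroupOf.2 hz)
      have hyg : y * g * y⁻¹ ∈ normalizer (T : Set G) := mul_mem (mul_mem hyT hgT) (inv_mem hyT)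
      exact mem_normalizer_iff.1 hyg k
    refine ⟨key x hM.inv hT g, fun hg => ?_⟩
    simpa [mul_assoc] using key x⁻¹ hM.inv.inv hT.inv _ hg
  have hE3 : ¬ 3 ∣ Nat.card E := fun h => hM.not3 (h.trans (card_dvd_of_le hEM))
  have hET : ∀ e ∈ E, e ∈ normalizer (T : Set G) := by
    rintro _ ⟨g, hg, rfl⟩
    refine mem_normalizer_iff.2 fun z => ⟨fun hz => ?_, fun hz => ?_⟩
    · exact mem_subgroupOf.1 ((mem_normalizer_iff.1 hg ⟨z, hTM hz⟩).1 hz)
    · have hzM : z ∈ M := by
        have := mul_mem (mul_mem (inv_mem g.2) (hTM hz)) g.2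
        simpa [mul_assoc] using this
      exact (mem_normalizer_iff.1 hg ⟨z, hzM⟩).2 (mem_subgroupOf.2 hz)
  set J : Set G := {y : G | y ∈ T ∧ y ∉ K ∧ y * y = 1}
  -- the other conjugates of `K` inside `T`
  have hA : ∀ w ∈ E, w ∉ T → K.map (MulAut.conj w).toMonoidHom ≤ T ∧
      K.map (MulAut.conj w).toMonoidHom ≠ K := by
    intro w hw hwT
    refine ⟨?_, fun e => hwT ?_⟩
    · rintro _ ⟨k, hk, rfl⟩
      exact (mem_normalizer_iff.1 (hET w hw) k).1 (hKT hk)
    · rw [← hMN]
      refine ⟨hEM hw, mem_normalizer_iff.2 fun k => ⟨fun hk => e ▸ ⟨k, hk, rfl⟩, fun hk => ?_⟩⟩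
      rw [← e] at hk
      obtain ⟨j, hj, hjk⟩ := hk
      have : j = k := mul_left_cancel (mul_right_cancel (show w * j * w⁻¹ = w * k * w⁻¹ from hjk))
      exact this ▸ hj
  have hcount : ∀ A : Subgroup G, A ≤ T → A ≠ K → Nat.card A = Nat.card K → IsMulCommutative A →
      (∀ a ∈ A, a * a = 1) → Nat.card K = 16 ∧ Nat.card (A ⊓ K : Subgroup G) = 4 ∧
        (A : Set G) \ K ⊆ J ∧ J.ncard ≤ 12 := by
    intro A hAT hAK hAc hAcomm hAsq
    obtain ⟨v, hv, hvK⟩ : ∃ v ∈ A, v ∉ K := by
      by_contra hall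
      push Not at hall
      exact hAK (eq_of_le_of_card_ge hall hAc.ge)
    set I : Subgroup G := A ⊓ K
    have hIC : I ≤ K ⊓ centralizer ({v} : Set G) := fun z hz =>
      ⟨hz.2, mem_centralizer_singleton_iff.2 (congrArg Subtype.val (mul_comm' (⟨z, hz.1⟩ : A) ⟨v, hv⟩))⟩
    set r := Nat.card (K ⊓ centralizer ({v} : Set G) : Subgroup G)
    have hr : Nat.card K = r ^ 2 := hfix v (hAT hv) hvK
    have h4I : Nat.card K ≤ 4 * Nat.card I := by
      have h1 := relIndex_mul_relIndex ⊥ I A bot_le inf_le_left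
      rw [relIndex_bot_left, relIndex_bot_left, hAc] at h1
      have h2 : I.relIndex A ≤ 4 := by
        rw [show I = A ⊓ K from rfl, inf_relIndex_left]
        have h3 : K.relIndex T = 4 := by
          have := relIndex_mul_relIndex ⊥ K T bot_le hKT
          rw [relIndex_bot_left, relIndex_bot_left, hT4, mul_comm 4] at this
          exact Nat.eq_of_mul_eq_mul_left Nat.card_pos this
        rw [← h3]
        exact relIndex_le_of_le_right hAT (by rw [h3]; norm_num)
      calc Nat.card K = Nat.card I * I.relIndex A := h1.symm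
        _ ≤ Nat.card I * 4 := Nat.mul_le_mul_left _ h2
        _ = _ := mul_comm ..
    have hIr : Nat.card I ≤ r := Nat.le_of_dvd Nat.card_pos (card_dvd_of_le hIC)
    have hr4' : r = 4 := by
      rw [hr] at h4I hr4
      have : r ≤ 4 := by nlinarith
      nlinarith
    refine ⟨by rw [hr, hr4']; norm_num, ?_, fun a ha => ⟨hAT ha.1, ha.2, hAsq a ha.1⟩, ?_⟩
    · rw [hr, hr4'] at h4I; omega
    -- involutions outside `K`
    have hK16 : Nat.card K = 16 := by rw [hr, hr4']; norm_num
    have hcos : ∀ y ∈ J, {z | z ∈ J ∧ y⁻¹ * z ∈ K}.ncard ≤ 4 := by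
      rintro y ⟨hyT, hyK, hy2⟩
      have hC : Nat.card (K ⊓ centralizer ({y} : Set G) : Subgroup G) = 4 := by
        have h := hfix y hyT hyK
        rw [hK16] at h
        exact Nat.pow_left_injective (n := 2) (by norm_num) (show _ ^ 2 = 4 ^ 2 by rw [← h])
      rw [← hC]
      rw [show Nat.card (K ⊓ centralizer ({y} : Set G) : Subgroup G) =
        ((K ⊓ centralizer ({y} : Set G) : Subgroup G) : Set G).ncard from Nat.card_coe_set_eq _]
      refine Set.ncard_le_ncard_of_injOn (fun z => y⁻¹ * z) ?_ (fun a _ b _ e => mul_left_cancel e) (Set.toFinite _)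
      rintro z ⟨⟨-, -, hz2⟩, hzK⟩
      refine ⟨hzK, mem_centralizer_singleton_iff.2 ?_⟩
      have hk2 : y⁻¹ * z * (y⁻¹ * z) = 1 := by rw [← pow_two]; exact hK _ hzK
      have hyi : y⁻¹ = y := inv_eq_of_mul_eq_one_left hy2
      rw [hyi] at hk2 ⊢
      calc y * z * y = y * z * y * (z * z) := by rw [hz2, mul_one]
        _ = (y * z * (y * z)) * z := by group
        _ = z := by rw [hk2, one_mul]
        _ = y * (y * z) := by rw [← mul_assoc, hy2, one_mul]
    have hpart : J ⊆ ⋃ q ∈ ((QuotientGroup.mk '' J) : Set (G ⧸ K)), {z | z ∈ J ∧ (z : G ⧸ K) = q} :=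
      fun z hz => Set.mem_biUnion (Set.mem_image_of_mem _ hz) ⟨hz, rfl⟩
    have h3 : (QuotientGroup.mk '' J : Set (G ⧸ K)).ncard ≤ 3 := by
      have hTimg : (QuotientGroup.mk '' (T : Set G) : Set (G ⧸ K)).ncard = 4 := by
        let F : T ⧸ K.subgroupOf T → G ⧸ K := Quotient.lift (fun a : T => ((a : G) : G ⧸ K)) fun a b hab =>
          QuotientGroup.eq.2 (by simpa [mem_subgroupOf] using QuotientGroup.leftRel_apply.1 hab)
        have hF : Function.Injective F := fun a b => Quotient.inductionOn₂ a b fun a b e =>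
          Quotient.sound (QuotientGroup.leftRel_apply.2 (mem_subgroupOf.2 (by
            simpa using QuotientGroup.eq.1 e)))
        have himg : (QuotientGroup.mk '' (T : Set G) : Set (G ⧸ K)) = Set.range F := by
          ext q
          constructor
          · rintro ⟨a, ha, rfl⟩; exact ⟨Quotient.mk'' ⟨a, ha⟩, rfl⟩
          · rintro ⟨a, rfl⟩
            induction a using Quotient.inductionOn with
            | _ a => exact ⟨a, a.2, rfl⟩
        rw [himg, ← Nat.card_coe_set_eq, Nat.card_range_of_injective hF, ← index_eq_card]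
        have := card_mul_index (K.subgroupOf T)
        rw [Nat.card_congr (subgroupOfEquivOfLe hKT).toEquiv, hT4, mul_comm 4] at this
        exact Nat.eq_of_mul_eq_mul_left Nat.card_pos this
      have hsub : (QuotientGroup.mk '' J : Set (G ⧸ K)) ⊆
          (QuotientGroup.mk '' (T : Set G) : Set (G ⧸ K)) \ {((1 : G) : G ⧸ K)} := by
        rintro _ ⟨z, ⟨hzT, hzK, -⟩, rfl⟩
        refine ⟨⟨z, hzT, rfl⟩, fun e => hzK ?_⟩
        have := QuotientGroup.eq.1 (Set.mem_singleton_iff.1 e)
        simpa using inv_mem this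
      refine (Set.ncard_le_ncard hsub).trans ?_
      rw [Set.ncard_sdiff_singleton_of_mem (Set.mem_image_of_mem _ (one_mem T)), hTimg]
    calc J.ncard ≤ _ := Set.ncard_le_ncard hpart
      _ ≤ ∑ᶠ q ∈ ((QuotientGroup.mk '' J) : Set (G ⧸ K)), {z | z ∈ J ∧ (z : G ⧸ K) = q}.ncard :=
          (Set.toFinite _).ncard_biUnion_le _
      _ ≤ 12 := by
        rw [finsum_mem_eq_finite_toFinset_sum _ (Set.toFinite _)]
        refine (Finset.sum_le_card_nsmul _ _ 4 fun q hq => ?_).trans ?_
        · obtain ⟨y, hy, rfl⟩ := (Set.Finite.mem_toFinset _).1 hq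
          refine le_trans (Set.ncard_le_ncard ?_) (hcos y hy)
          rintro z ⟨hz, e⟩
          exact ⟨hz, QuotientGroup.eq.1 e.symm⟩
        · rw [smul_eq_mul, ← Set.ncard_eq_toFinset_card]; omega
  -- all of them coincide
  have huniq : ∀ A B : Subgroup G, A ≤ T → B ≤ T → A ≠ K → B ≠ K → Nat.card A = Nat.card K →
      Nat.card B = Nat.card K → IsMulCommutative A → IsMulCommutative B → (∀ a ∈ A, a * a = 1) →
      (∀ a ∈ B, a * a = 1) → A = B := by
    intro A B hA1 hB1 hA2 hB2 hA3 hB3 hA4 hB4 hA5 hB5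
    obtain ⟨h16, hIA, hAJ, hJ⟩ := hcount A hA1 hA2 hA3 hA4 hA5
    obtain ⟨-, hIB, hBJ, -⟩ := hcount B hB1 hB2 hB3 hB4 hB5
    have hcardd : ∀ C : Subgroup G, Nat.card C = Nat.card K → Nat.card (C ⊓ K : Subgroup G) = 4 →
        ((C : Set G) \ K).ncard = 12 := fun C h1 h2 => by
      have := Set.ncard_inter_add_ncard_sdiff_eq_ncard (C : Set G) (K : Set G)
      rw [← Nat.card_coe_set_eq (C : Set G), show Nat.card (C : Set G) = 16 from h1.trans h16,
        ← Nat.card_coe_set_eq ((C : Set G) ∩ K), show Nat.card ((C : Set G) ∩ K : Set G) = 4 from h2] at this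
      omega
    have eA := Set.eq_of_subset_of_ncard_le hAJ (by rw [hcardd A hA3 hIA]; exact hJ)
    have eB := Set.eq_of_subset_of_ncard_le hBJ (by rw [hcardd B hB3 hIB]; exact hJ)
    refine eq_of_le_of_card_ge (fun a ha => ?_) (by rw [hA3, hB3])
    by_cases haK : a ∈ K
    · -- write `a` as a product of two elements outside `K`
      obtain ⟨v, hv, hvK⟩ : ∃ v ∈ A, v ∉ K := by
        by_contra hall
        push Not at hall
        exact hA2 (eq_of_le_of_card_ge hall hA3.ge)
      have h1 : v ∈ (B : Set G) \ K := eB.ge (eA.le ⟨hv, hvK⟩)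
      have h2 : v * a ∈ (B : Set G) \ K := eB.ge (eA.le ⟨mul_mem hv ha, fun h => hvK (by
        have := mul_mem h (inv_mem haK); rwa [mul_inv_cancel_right] at this)⟩)
      have := mul_mem (inv_mem h1.1) h2.1
      rwa [inv_mul_cancel_left] at this
    · exact (eB.ge (eA.le ⟨ha, haK⟩)).1
  haveI : IsMulCommutative K := ⟨⟨fun a b => Subtype.ext (by
    have ha := hK _ a.2
    have hb := hK _ b.2
    have hab := hK _ (mul_mem a.2 b.2)
    rw [pow_two] at ha hb hab
    calc (a : G) * b = (a * b)⁻¹ := (inv_eq_of_mul_eq_one_left hab).symm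
      _ = (b : G) * a := by
        simp only [mul_inv_rev, Subgroup.coe_mul, Subgroup.coe_inv, inv_eq_of_mul_eq_one_left hb,
          inv_eq_of_mul_eq_one_left ha])⟩⟩
  -- so the orbit of `K` has at most two members
  have hconjprop : ∀ w : G, Nat.card (K.map (MulAut.conj w).toMonoidHom) = Nat.card K ∧
      IsMulCommutative (K.map (MulAut.conj w).toMonoidHom) ∧
      ∀ a ∈ K.map (MulAut.conj w).toMonoidHom, a * a = 1 := fun w =>
    ⟨card_map_of_injective (MulAut.conj w).injective, inferInstance, by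
      rintro _ ⟨k, hk, rfl⟩
      rw [← map_mul, ← pow_two, hK k hk, map_one]⟩
  have hsmall : (T.subgroupOf E).index ≤ 2 := by
    by_contra hgt
    push Not at hgt
    haveI := Fintype.ofFinite (E ⧸ T.subgroupOf E)
    rw [index_eq_card, Nat.card_eq_fintype_card, Fintype.two_lt_card_iff] at hgt
    obtain ⟨p, q, o, hpq, hpo, hqo⟩ := hgt
    -- two cosets give the same conjugate
    have key : ∀ a b : E, (a : G) ∉ T → (b : G) ∉ T → (a : E ⧸ T.subgroupOf E) = b := fun a b ha hb => by
      obtain ⟨hA1, hA2⟩ := hA a a.2 ha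
      obtain ⟨hB1, hB2⟩ := hA b b.2 hb
      have e := huniq _ _ hA1 hB1 hA2 hB2 (hconjprop a).1 (hconjprop b).1 (hconjprop a).2.1
        (hconjprop b).2.1 (hconjprop a).2.2 (hconjprop b).2.2
      refine QuotientGroup.eq.2 (mem_subgroupOf.2 ?_)
      rw [← hMN]
      refine ⟨hEM (mul_mem (inv_mem a.2) b.2), mem_normalizer_iff.2 fun k => ?_⟩
      simp only [Subgroup.coe_mul, Subgroup.coe_inv]
      constructor
      · intro hk
        have : (b : G) * k * (b : G)⁻¹ ∈ K.map (MulAut.conj (a : G)).toMonoidHom := e ▸ ⟨k, hk, rfl⟩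
        obtain ⟨j, hj, hjk⟩ := this
        have : j = (a : G)⁻¹ * ((b : G) * k * (b : G)⁻¹) * a := by
          have hjk' : (a : G) * j * (a : G)⁻¹ = (b : G) * k * (b : G)⁻¹ := hjk
          rw [← hjk']; group
        rw [show (a : G)⁻¹ * b * k * ((a : G)⁻¹ * b)⁻¹ = j by rw [this]; group]
        exact hj
      · intro hk
        have : (a : G) * ((a : G)⁻¹ * b * k * ((a : G)⁻¹ * b)⁻¹) * (a : G)⁻¹ ∈
            K.map (MulAut.conj (b : G)).toMonoidHom := e ▸ ⟨_, hk, rfl⟩
        obtain ⟨j, hj, hjk⟩ := this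
        have hjk' : (b : G) * j * (b : G)⁻¹ = (b : G) * k * (b : G)⁻¹ :=
          (show (b : G) * j * (b : G)⁻¹ = _ from hjk).trans (by group)
        exact (mul_left_cancel (mul_right_cancel hjk')) ▸ hj
    obtain ⟨a, rfl⟩ := QuotientGroup.mk_surjective p
    obtain ⟨b, rfl⟩ := QuotientGroup.mk_surjective q
    obtain ⟨c, rfl⟩ := QuotientGroup.mk_surjective o
    have h1 : ∀ u v : E, (u : E ⧸ T.subgroupOf E) ≠ v → (u : G) ∉ T ∨ (v : G) ∉ T := fun u v huv => by
      by_contra hcon
      push Not at hcon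
      exact huv (QuotientGroup.eq.2 (mem_subgroupOf.2 (mul_mem (inv_mem hcon.1) hcon.2)))
    by_cases ha : (a : G) ∈ T
    · exact hqo (key b c ((h1 a b hpq).resolve_left (not_not.2 ha)) ((h1 a c hpo).resolve_left (not_not.2 ha)))
    by_cases hb : (b : G) ∈ T
    · exact hpo (key a c ha ((h1 b c hqo).resolve_left (not_not.2 hb)))
    exact hpq (key a b ha hb)
  have hmul := card_mul_index (T.subgroupOf E)
  rw [Nat.card_congr (subgroupOfEquivOfLe hTE.le).toEquiv] at hmul
  have hmE := hx.card_mod_three hEi hE3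
  have hmT := hx.card_mod_three hT (fun h => hM.not3 (h.trans (card_dvd_of_le hTM)))
  have hidx : (T.subgroupOf E).index ≠ 0 := index_ne_zero_of_finite
  have hi1 : (T.subgroupOf E).index ≠ 1 := fun e =>
    hTE.not_ge (subgroupOf_eq_top.1 (index_eq_one.1 e))
  have hi2 : (T.subgroupOf E).index = 2 := by omega
  rw [hi2] at hmul
  omega

/-- A maximal invariant subgroup meeting another one. -/
theorem MaxInv.meet {M M' : Subgroup G} (hM : MaxInv x M) (hM' : MaxInv x M') (hne : M' ≠ M)
    (hmeet : M ⊓ M' ≠ ⊥) (ht : t * x * t⁻¹ = x⁻¹) :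
    Nat.card (normalizer (M : Set G)) = 3 * Nat.card M ∧
      4 ∣ Nat.card M ∧ 64 ≤ Nat.card M ∧ 15 * Nat.card M ∣ Nat.card G ∧ 105 * Nat.card M ≤ Nat.card G := by
  classical
  haveI := hx.isNilpotent hM.inv hM.not3
  -- a largest meet
  obtain ⟨M₁, ⟨⟨hM₁, hne₁⟩, hmeet₁⟩, hmax⟩ := (Set.toFinite
    {N : Subgroup G | (MaxInv x N ∧ N ≠ M) ∧ M ⊓ N ≠ ⊥}).exists_maximalFor
      (fun N => Nat.card (M ⊓ N : Subgroup G)) _ ⟨M', ⟨hM', hne⟩, hmeet⟩
  set D := M ⊓ M₁ with hD
  haveI := hx.isNilpotent hM₁.inv hM₁.not3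
  have hDi : Inv x D := mem_normalizer_iff.2 fun g =>
    ⟨fun h => ⟨hM.inv.conj_mem h.1, hM₁.inv.conj_mem h.2⟩,
      fun h => ⟨(mem_normalizer_iff.1 hM.inv g).2 h.1, (mem_normalizer_iff.1 hM₁.inv g).2 h.2⟩⟩
  have hD3 : ¬ 3 ∣ Nat.card D := fun h => hM.not3 (h.trans (card_dvd_of_le inf_le_left))
  have hbigger : ∀ N : Subgroup G, MaxInv x N → N ≠ M → ∀ E : Subgroup G, D ≤ E → E ≤ M → E ≤ N → E ≤ D := by
    intro N hN hNM E hDE hEM hEN
    have h := hmax (j := N) ⟨⟨hN, hNM⟩, fun e => hmeet₁ (le_bot_iff.1 (e ▸ hDE.trans (le_inf hEM hEN)))⟩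
      (Nat.le_of_dvd Nat.card_pos (card_dvd_of_le (hDE.trans (le_inf hEM hEN))))
    exact (eq_of_le_of_card_ge hDE (le_trans (Nat.le_of_dvd Nat.card_pos (card_dvd_of_le (le_inf hEM hEN))) h)).ge
  set H := normalizer (D : Set G) with hH
  have hHne : H ≠ ⊤ := normalizer_ne_top_of_ne_bot hG hmeet₁ hD3 hx.three_once.1
  -- both grow inside `H`
  have hgrow : ∀ N : Subgroup G, Group.IsNilpotent N → D ≤ N → D ≠ N → ¬ N ⊓ H ≤ D := by
    intro N hNn hDN hne hle
    have hlt : D.subgroupOf N < ⊤ := lt_top_iff_ne_top.2 fun e => hne (le_antisymm hDN (subgroupOf_eq_top.1 e))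
    obtain ⟨g, hg, hgD⟩ := SetLike.exists_of_lt (Group.normalizerCondition_of_isNilpotent _ hlt)
    refine hgD (mem_subgroupOf.2 (hle ⟨g.2, ?_⟩))
    refine mem_normalizer_iff.2 fun z => ⟨fun hz => ?_, fun hz => ?_⟩
    · exact mem_subgroupOf.1 ((mem_normalizer_iff.1 hg ⟨z, hDN hz⟩).1 hz)
    · have hzN : z ∈ N := by
        have := mul_mem (mul_mem (inv_mem g.2) (hDN hz)) g.2
        simpa [mul_assoc] using this
      exact (mem_normalizer_iff.1 hg ⟨z, hzN⟩).2 (mem_subgroupOf.2 hz)
  have hgM := hgrow M inferInstance inf_le_left fun e =>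
    hne₁ (hM.max M₁ hM₁.inv hM₁.not3 (e.ge.trans inf_le_right))
  have hgM₁ := hgrow M₁ inferInstance inf_le_right fun e =>
    hne₁ (hM₁.max M hM.inv hM.not3 (e.ge.trans inf_le_left)).symm
  have hinfH : ∀ N : Subgroup G, MaxInv x N → Inv x (N ⊓ H) ∧ ¬ 3 ∣ Nat.card (N ⊓ H : Subgroup G) := by
    intro N hN
    refine ⟨mem_normalizer_iff.2 fun g => ⟨fun h => ⟨hN.inv.conj_mem h.1, H.mul_mem (H.mul_mem hDi h.2) (H.inv_mem hDi)⟩,
      fun h => ⟨(mem_normalizer_iff.1 hN.inv g).2 h.1, ?_⟩⟩, fun h => hN.not3 (h.trans (card_dvd_of_le inf_le_left))⟩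
    have := H.mul_mem (H.mul_mem (H.inv_mem hDi) h.2) hDi
    simpa [mul_assoc] using this
  obtain ⟨K, hKn, hK3, hcases⟩ := hsh H hDi hHne
  have hDn : (D.subgroupOf H).Normal := normal_in_normalizer
  rcases hcases with hI | hA | ⟨-, hs, h168⟩
  · exfalso
    obtain ⟨M₃, hM₃, hKM₃⟩ := exists_maxInv (x := x) (L := K.map H.subtype)
      (le_normalizer_map H.subtype ⟨⟨x, hDi⟩, by rw [normalizer_eq_top]; exact mem_top _, rfl⟩)
      (by rwa [card_map_of_injective H.subtype_injective])
    have hlK : ∀ N : Subgroup G, MaxInv x N → N ⊓ H ≤ M₃ := fun N hN =>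
      (le_of_shape_one hx hDi hI hK3 inf_le_right (hinfH N hN).1 (hinfH N hN).2).trans hKM₃
    by_cases h3M : M₃ = M
    · exact hgM₁ (le_inf ((hlK M₁ hM₁).trans h3M.le) inf_le_left)
    · exact hgM (hbigger M₃ hM₃ h3M _ (le_inf inf_le_left le_normalizer) inf_le_left (hlK M hM))
  · obtain ⟨T₀, U₀, hTU₀, hW, hall, hsw₀, hfix⟩ := facts_of_shapeA hx hDi hA
    set K₀ := K.map H.subtype with hK₀
    have hDK : D ≤ K₀ := by
      haveI := hA.simple
      rcases (hDn.map _ (QuotientGroup.mk'_surjective K)).eq_bot_or_eq_top with e | e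
      · intro g hg
        rw [Subgroup.map_eq_bot_iff, QuotientGroup.ker_mk'] at e
        exact ⟨⟨g, le_normalizer hg⟩, e (mem_subgroupOf.2 hg), rfl⟩
      · exfalso
        have h1 : Nat.card ↥((D.subgroupOf H).map (QuotientGroup.mk' K)) ∣ Nat.card (D.subgroupOf H) :=
          card_map_dvd _ _
        rw [e, card_top, ← index_eq_card, hA.index,
          Nat.card_congr (subgroupOfEquivOfLe le_normalizer).toEquiv] at h1
        exact hD3 ((show 3 ∣ 60 by norm_num).trans h1)
    -- maximal subgroups above the two tops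
    obtain ⟨W, W', hW1, hW2, hWW', hMW⟩ : ∃ W W', (W = T₀ ∨ W = U₀) ∧ (W' = T₀ ∨ W' = U₀) ∧ W ≠ W' ∧
        M ⊓ H ≤ W := by
      rcases hall _ inf_le_right (hinfH M hM).1 (hinfH M hM).2 with h | h | h
      · exact ⟨T₀, U₀, Or.inl rfl, Or.inr rfl, hTU₀, h.trans (hW T₀ (Or.inl rfl)).1⟩
      · exact ⟨T₀, U₀, Or.inl rfl, Or.inr rfl, hTU₀, h⟩
      · exact ⟨U₀, T₀, Or.inr rfl, Or.inl rfl, Ne.symm hTU₀, h⟩
    obtain ⟨hKW, hWH, hWi, hW4, hW3⟩ := hW W hW1
    obtain ⟨hKW', hW'H, hW'i, hW'4, hW'3⟩ := hW W' hW2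
    have hKpos : 0 < Nat.card K₀ := Nat.card_pos
    have hWle : ∀ V V', (V = T₀ ∨ V = U₀) → (V' = T₀ ∨ V' = U₀) → V ≤ V' → V = V' := fun V V' hV hV' hle =>
      eq_of_le_of_card_ge hle (by rw [(hW V hV).2.2.2.1, (hW V' hV').2.2.2.1])
    have hone : ∀ N : Subgroup G, MaxInv x N → ∀ V, (V = T₀ ∨ V = U₀) → V ≤ N → N ⊓ H = V := by
      intro N hN V hV hVN
      refine le_antisymm ?_ (le_inf hVN (hW V hV).2.1)
      have hle : V ≤ N ⊓ H := le_inf hVN (hW V hV).2.1
      rcases hall _ inf_le_right (hinfH N hN).1 (hinfH N hN).2 with h | h | h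
      · exact h.trans (hW V hV).1
      · exact h.trans (hWle V T₀ hV (Or.inl rfl) (hle.trans h)).ge
      · exact h.trans (hWle V U₀ hV (Or.inr rfl) (hle.trans h)).ge
    have hWM : W ≤ M := by
      obtain ⟨M₃, hM₃, hle⟩ := exists_maxInv hWi hW3
      by_contra hcon
      exact hgM (hbigger M₃ hM₃ (fun e => hcon (e ▸ hle)) _ (le_inf inf_le_left le_normalizer) inf_le_left
        (hMW.trans hle))
    have hMH : M ⊓ H = W := hone M hM W hW1 hWM
    obtain ⟨M₄, hM₄, hW'M₄⟩ := exists_maxInv hW'i hW'3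
    have hM₄ne : M₄ ≠ M := fun e => hWW' (by
      rw [← hMH, ← hone M hM W' hW2 (e ▸ hW'M₄)])
    have hKD : K₀ ≤ D := hbigger M₄ hM₄ hM₄ne K₀ hDK (hKW.trans hWM) (hKW'.trans hW'M₄)
    have hKeq : K₀ = D := le_antisymm hKD hDK
    have hHK : normalizer (K₀ : Set G) = H := by rw [hKeq]
    have hKsq : ∀ k ∈ K₀, k ^ 2 = 1 := by
      rintro _ ⟨k, hk, rfl⟩; rw [← map_pow, hA.sq k hk, map_one]
    have hK16 : 16 ≤ Nat.card K₀ := by
      obtain ⟨v, hv, hvK⟩ : ∃ v ∈ W, v ∉ K₀ := by
        by_contra hall'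
        push Not at hall'
        have := Nat.le_of_dvd Nat.card_pos (card_dvd_of_le hall')
        omega
      have hr := hfix W hW1 v hv hvK
      set r := Nat.card (K₀ ⊓ centralizer ({v} : Set G) : Subgroup G)
      have hr0 : 0 < r := Nat.card_pos
      have hmod := hx.card_mod_three (hKeq ▸ hDi : Inv x K₀) (hKeq ▸ hD3)
      have hr1 : r ≠ 1 := fun e => by
        rw [e, one_pow] at hr
        exact hmeet₁ (card_eq_one.1 (hKeq ▸ hr))
      have hr3 : r ≠ 3 := fun e => by rw [hr, e] at hmod; norm_num at hmod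
      have hr2 : r ≠ 2 := by
        intro e
        rw [e] at hr
        -- the action on a four-group would be trivial
        haveI := hA.simple
        have hC : (centralizer (K : Set H)).Normal := inferInstance
        have hKC : K ≤ centralizer (K : Set H) := fun a ha =>
          mem_centralizer_iff.2 fun b hb => hA.comm b hb a ha
        rcases (hC.map _ (QuotientGroup.mk'_surjective K)).eq_bot_or_eq_top with e' | e'
        · rw [Subgroup.map_eq_bot_iff, QuotientGroup.ker_mk'] at e'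
          let φ : H →* Equiv.Perm K := MulAction.toPermHom (ConjAct H) K |>.comp ConjAct.toConjAct.toMonoidHom
          have hker : φ.ker ≤ centralizer (K : Set H) := fun g hg => mem_centralizer_iff.2 fun b hb => by
            have := congrArg (fun f : Equiv.Perm K => ((f ⟨b, hb⟩ : K) : H)) (MonoidHom.mem_ker.1 hg)
            change g * b * g⁻¹ = b at this
            exact (mul_inv_eq_iff_eq_mul.1 this).symm
          have h1 := card_subgroup_dvd_card φ.range
          rw [← index_ker, Nat.card_perm] at h1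
          have h2 : K.index ∣ φ.ker.index := index_dvd_of_le (hker.trans e')
          rw [hA.index] at h2
          have h4 : Nat.card K = 4 := by
            rw [← card_map_of_injective (K := K) H.subtype_injective, ← hK₀, hr]; norm_num
          rw [h4] at h1
          have := h2.trans h1
          norm_num [Nat.factorial] at this
        · have : (⟨x, hDi⟩ : H) ∈ centralizer (K : Set H) := by
            have := congrArg (Subgroup.comap (QuotientGroup.mk' K)) e'
            rw [comap_map_eq, QuotientGroup.ker_mk', sup_of_le_left hKC, comap_top] at this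
            rw [this]; exact mem_top _
          refine hmeet₁ (le_bot_iff.1 (hKeq ▸ fun k hk => mem_bot.2 (hx.eq_one_of_comm (hKeq ▸ hD3) hk ?_)))
          obtain ⟨k, hk', rfl⟩ := (hKeq ▸ hk : k ∈ K₀)
          exact congrArg Subtype.val (mem_centralizer_iff.1 this k hk').symm
      rw [hr, pow_two]
      exact Nat.mul_le_mul (show 4 ≤ r by omega) (show 4 ≤ r by omega)
    have hMW' : M = W := hM.eq_top_part hx hG hsh hKW hWi hW4 hWM (by rw [hHK]; exact hMH) hKsq hK16 (hfix W hW1)
    have hM₄W : M₄ = W' := hM₄.eq_top_part hx hG hsh hKW' hW'i hW'4 hW'M₄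
      (by rw [hHK]; exact hone M₄ hM₄ W' hW2 hW'M₄) hKsq hK16 (hfix W' hW2)
    have hinter : M ⊓ M₄ = K₀ := le_antisymm
      (by rw [hKeq]; exact hbigger M₄ hM₄ hM₄ne _ (le_inf inf_le_left (hDK.trans (hKW'.trans hW'M₄))) inf_le_left inf_le_right)
      (le_inf (hKW.trans hWM) (hKW'.trans hW'M₄))
    have hm : Nat.card M = 4 * Nat.card K₀ := by rw [hMW', hW4]
    have hm' : Nat.card M₄ = 4 * Nat.card K₀ := by rw [hM₄W, hW'4]
    have h3m : Nat.card (normalizer (M : Set G)) = 3 * Nat.card M := by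
      have hM0 : M ≠ ⊥ := fun e => by rw [e, card_bot] at hm; omega
      rcases hM.card_normalizer hx hG hsh hM0 with h | h6
      · exact h
      exfalso
      have hti := hM.inv_t hx hG hsh ht h6
      have htH : ∀ V : Subgroup G, Inv t V → Inv t K₀ → V = W → False := fun V hV hK hVW => by
        have htH' : t ∈ H := hHK ▸ hK
        rcases hW1 with e | e
        · exact (hsw₀ t htH' ht).1 (e ▸ hVW ▸ hV)
        · exact (hsw₀ t htH' ht).2 (e ▸ hVW ▸ hV)
      rcases hM₄.card_normalizer hx hG hsh (fun e => by rw [e, card_bot] at hm'; omega) with h4 | h4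
      · -- a Sylow two-subgroup would be too small
        haveI : Fact (Nat.Prime 2) := ⟨Nat.prime_two⟩
        obtain ⟨P, hPM, -⟩ := hM₄.exists_sylow hx hG hsh (p := 2) (by rw [hm']; exact Dvd.intro (2 * Nat.card K₀) (by ring)) fun _ => h4
        have hK2 : IsPGroup 2 K₀ := fun k => ⟨1, Subtype.ext (by simpa using hKsq k k.2)⟩
        obtain ⟨n, hn⟩ := IsPGroup.iff_card.1 hK2
        have h8 : 2 ^ (n + 3) ∣ Nat.card G := by
          refine Nat.dvd_trans ?_ (card_subgroup_dvd_card (normalizer (M : Set G)))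
          rw [h6, hm, hn]
          exact ⟨3, by ring⟩
        have hle := ((Nat.prime_two).pow_dvd_iff_le_factorization Nat.card_pos.ne').1 h8
        have hP := Nat.le_of_dvd Nat.card_pos (card_dvd_of_le hPM)
        rw [P.card_eq_multiplicity, hm', hn] at hP
        have h5 : 2 ^ (n + 3) ≤ 4 * 2 ^ n := (Nat.pow_le_pow_right two_pos hle).trans hP
        rw [pow_add] at h5
        have : 0 < 2 ^ n := Nat.two_pow_pos n
        omega
      · have hti₄ := hM₄.inv_t hx hG hsh ht h4
        refine htH M hti ?_ hMW'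
        rw [← hinter]
        exact mem_normalizer_iff.2 fun g => ⟨fun h => ⟨hti.conj_mem h.1, hti₄.conj_mem h.2⟩,
          fun h => ⟨(mem_normalizer_iff.1 hti g).2 h.1, (mem_normalizer_iff.1 hti₄ g).2 h.2⟩⟩
    have hHcard : Nat.card H = 15 * Nat.card M := by
      have := card_mul_index K
      rw [hA.index] at this
      rw [hm, hK₀, card_map_of_injective H.subtype_injective]
      omega
    refine ⟨h3m, ⟨Nat.card K₀, hm⟩, by omega, hHcard ▸ card_subgroup_dvd_card H, ?_⟩
    -- the index of `H` is at least seven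
    have hidx := card_mul_index H
    rw [hHcard] at hidx
    have hfac := SmallSimple.Basic.two_mul_card_dvd_factorial hG H hHne
    have h7 : 7 ≤ H.index := by
      by_contra h7
      push Not at h7
      have h720 : Nat.factorial H.index ∣ Nat.factorial 6 := Nat.factorial_dvd_factorial (by omega)
      have h2 := Nat.le_of_dvd (by norm_num [Nat.factorial]) (hfac.trans h720)
      have h3 : 15 * Nat.card M * 1 ≤ Nat.card G := by
        rw [← hidx]; exact Nat.mul_le_mul_left _ (Nat.pos_of_ne_zero index_ne_zero_of_finite)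
      norm_num [Nat.factorial] at h2
      omega
    calc 105 * Nat.card M = 15 * Nat.card M * 7 := by ring
      _ ≤ Nat.card G := by rw [← hidx]; exact Nat.mul_le_mul_left _ h7
  · exfalso
    rcases hDn.eq_bot_or_eq_top with e | e
    · rw [subgroupOf_eq_bot] at e
      exact hmeet₁ (disjoint_iff.1 e ▸ (inf_of_le_left le_normalizer).symm)
    · rw [subgroupOf_eq_top] at e
      have hcard : Nat.card D = 168 := by rw [← h168, le_antisymm e le_normalizer]
      exact hD3 (by rw [hcard]; norm_num)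

end Cfsg.Agent.SelfThree
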