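import Cfsg.Agent.Lib.SelfThree.Basic

/-!
# A fixed-point-free normal subgroup below a quotient of alternating type
-/

set_option autoImplicit false
set_option linter.style.haveILetI false
set_option linter.unusedSectionVars false

namespace Cfsg.Agent.SelfThree

open Subgroup

universe u

/-- The configuration: a normal subgroup of order prime to three, maximal among the normal ones,
and two elements generating a tetrahedral group modulo it. -/
structure Tetra {G : Type u} [Group G] (N : Subgroup G) (a b : G) : Prop where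
  max : ∀ K : Subgroup G, K.Normal → N ≤ K → K = N ∨ K = ⊤
  not3 : ¬ 3 ∣ Nat.card N
  a3 : a ^ 3 ∈ N
  an : a ∉ N
  b3 : b ^ 3 ∈ N
  bn : b ∉ N
  ab3 : (a * b) ^ 3 ∈ N
  abn : a * b ∉ N
  ne : (b * a)⁻¹ * (a * b) ∉ N
  g2 : (a * b * a) * (a * b * a) ∈ N
  gn : a * b * a ∉ N

variable {G : Type u} [Group G] [Finite G] {x : G}

/-- An element of order three modulo `N` is self-centralizing of order three. -/
theorem Self.of_quotient_order (hx : Self x) (N : Subgroup G) [hN : N.Normal] (h3 : ¬ 3 ∣ Nat.card N)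
    {g : G} (hg : g ^ 3 ∈ N) (hgn : g ∉ N) : Self g := by
  haveI : Fact (Nat.Prime 3) := ⟨Nat.prime_three⟩
  have ho : orderOf (QuotientGroup.mk' N g) = 3 := orderOf_eq_prime
    (by rw [← map_pow]; exact (QuotientGroup.eq_one_iff _).2 hg)
    (fun h => hgn ((QuotientGroup.eq_one_iff g).1 h))
  obtain ⟨c, hc⟩ := (hx.quotient N h3).exists_conj ho
  obtain ⟨c, rfl⟩ := QuotientGroup.mk'_surjective N c
  obtain ⟨y, hy, hyc⟩ : ∃ y : G, Self y ∧ QuotientGroup.mk' N y = QuotientGroup.mk' N g := by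
    rcases hc with hc | hc
    · exact ⟨c * x * c⁻¹, hx.conj c, by simpa using hc⟩
    · exact ⟨c * x⁻¹ * c⁻¹, hx.inv.conj c, by simpa using hc⟩
  have hn : g * y⁻¹ ∈ N := (QuotientGroup.eq_one_iff _).1 (by
    change QuotientGroup.mk' N (g * y⁻¹) = 1
    rw [map_mul, map_inv, hyc, mul_inv_cancel])
  have := hy.order_coset (H := N) (by rw [Inv, normalizer_eq_top]; exact mem_top _) h3 hn
  rwa [inv_mul_cancel_right] at this

section Module

variable {N Z : Subgroup G} [hN : N.Normal] [hZ : Z.Normal]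

/-- The action on an abelian normal subgroup factors through `G / N`. -/
theorem conj_congr (hNZ : ∀ n ∈ N, ∀ z ∈ Z, n * z = z * n) {g g' : G} (h : g⁻¹ * g' ∈ N) (z : Z) :
    MulAut.conjNormal g z = MulAut.conjNormal g' z := by
  refine Subtype.ext ?_
  rw [MulAut.conjNormal_apply, MulAut.conjNormal_apply]
  have := hNZ _ h z z.2
  calc g * (z : G) * g⁻¹ = g * ((z : G) * (g⁻¹ * g')) * (g⁻¹ * g')⁻¹ * g⁻¹ := by group
    _ = g * ((g⁻¹ * g') * z) * (g⁻¹ * g')⁻¹ * g⁻¹ := by rw [this]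
    _ = g' * z * g'⁻¹ := by group

theorem Self.module_triple {y : G} (hy : Self y) (h3 : ¬ 3 ∣ Nat.card Z) (z : Z) :
    z * MulAut.conjNormal y z * MulAut.conjNormal y (MulAut.conjNormal y z) = 1 := by
  refine Subtype.ext ?_
  simp only [Subgroup.coe_mul, MulAut.conjNormal_apply, Subgroup.coe_one]
  exact hy.triple (by rw [Inv, normalizer_eq_top]; exact mem_top _) h3 z.2

/-- A maximal normal subgroup fixing a set that `x` moves. -/
theorem eq_one_of_kernel (hx : Self x) (hmax : ∀ K : Subgroup G, K.Normal → N ≤ K → K = N ∨ K = ⊤)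
    (h3 : ¬ 3 ∣ Nat.card Z) (hNZ : ∀ n ∈ N, ∀ z ∈ Z, n * z = z * n) {k : ℕ} {u : G} (hu : u ∉ N)
    (h : ∀ z ∈ Z, u * z ^ k = z ^ k * u) : ∀ z ∈ Z, z ^ k = 1 := by
  set K := centralizer ((fun z => z ^ k) '' (Z : Set G)) with hK
  have hKn : K.Normal := by
    constructor
    intro g hg c
    refine mem_centralizer_iff.2 ?_
    rintro _ ⟨z, hz, rfl⟩
    have := mem_centralizer_iff.1 hg _ ⟨c⁻¹ * z * c, by simpa using hZ.conj_mem z hz c⁻¹, rfl⟩
    simp only at this ⊢
    rw [show (c⁻¹ * z * c) ^ k = c⁻¹ * z ^ k * c by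
      simpa using (conj_pow (a := c⁻¹) (b := z) (i := k))] at this
    calc z ^ k * (c * g * c⁻¹) = c * (c⁻¹ * z ^ k * c * g) * c⁻¹ := by group
      _ = c * (g * (c⁻¹ * z ^ k * c)) * c⁻¹ := by rw [this]
      _ = _ := by group
  have hNK : N ≤ K := fun n hn => mem_centralizer_iff.2 (by
    rintro _ ⟨z, hz, rfl⟩; exact (hNZ n hn _ (pow_mem hz k)).symm)
  rcases hmax K hKn hNK with e | e
  · exact absurd (e ▸ (mem_centralizer_iff.2 (by
      rintro _ ⟨z, hz, rfl⟩; exact (h z hz).symm) : u ∈ K)) hu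
  · intro z hz
    refine hx.eq_one_of_comm h3 (pow_mem hz k) ?_
    exact (mem_centralizer_iff.1 (e.ge (mem_top x)) _ ⟨z, hz, rfl⟩).symm

/-- An abelian normal subgroup has exponent two. -/
theorem sq_eq_one (hx : Self x) {a b : G} (T : Tetra N a b) (hle : Z ≤ N)
    (hNZ : ∀ n ∈ N, ∀ z ∈ Z, n * z = z * n) : ∀ z ∈ Z, z ^ 2 = 1 := by
  have h3 : ¬ 3 ∣ Nat.card Z := fun h => T.not3 (h.trans (card_dvd_of_le hle))
  haveI : IsMulCommutative Z := ⟨⟨fun u v => Subtype.ext (hNZ u (hle u.2) v v.2)⟩⟩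
  letI : CommGroup Z := { (inferInstance : Group Z) with mul_comm := mul_comm' }
  refine eq_one_of_kernel hx T.max h3 hNZ (u := a * b * a) T.gn fun z hz => ?_
  set w : Z := ⟨z, hz⟩
  have ha := hx.of_quotient_order N T.not3 T.a3 T.an
  have hb := hx.of_quotient_order N T.not3 T.b3 T.bn
  have hab := hx.of_quotient_order N T.not3 T.ab3 T.abn
  have hba : Self (b * a) := by
    have := hab.conj a⁻¹
    rwa [show a⁻¹ * (a * b) * a⁻¹⁻¹ = b * a by group] at this
  have key : ∀ p q : G, Self p → Self q → Self (q * p) →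
      MulAut.conjNormal p w * MulAut.conjNormal (p * q * p) w * MulAut.conjNormal q⁻¹ w = 1 := by
    intro p q hp hq hqp
    have h := congrArg (MulAut.conjNormal p) (hqp.module_triple h3 w)
    rw [map_mul (MulAut.conjNormal p), map_mul (MulAut.conjNormal p), map_one (MulAut.conjNormal p)] at h
    simp only [← MulAut.mul_apply, ← map_mul, ← mul_assoc] at h
    have e' : p * q * p * q * p = q⁻¹ := by
      calc p * q * p * q * p = q⁻¹ * ((q * p) * (q * p) * (q * p)) := by group
        _ = q⁻¹ := by rw [hqp.mul_three, mul_one]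
    rwa [e'] at h
  have hba' : Self (b⁻¹ * a⁻¹) := by
    rw [← mul_inv_rev]; exact hab.inv
  have k1 := key a b ha hb hba
  have k2 := key a⁻¹ b⁻¹ ha.inv hb.inv hba'
  rw [inv_inv] at k2
  have ra := ha.module_triple h3 w
  have rb := hb.module_triple h3 w
  rw [← MulAut.mul_apply, ← map_mul, ha.mul_self] at ra
  rw [← MulAut.mul_apply, ← map_mul, hb.mul_self] at rb
  have hg : MulAut.conjNormal (a⁻¹ * b⁻¹ * a⁻¹) w = MulAut.conjNormal (a * b * a) w :=
    conj_congr hNZ (by
      rw [show (a⁻¹ * b⁻¹ * a⁻¹)⁻¹ * (a * b * a) = a * b * a * (a * b * a) by group]; exact T.g2) w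
  rw [hg] at k2
  have h2 : MulAut.conjNormal (a * b * a) (w ^ 2) = w ^ 2 := by
    rw [map_pow]
    set A := MulAut.conjNormal a w
    set A' := MulAut.conjNormal a⁻¹ w
    set B := MulAut.conjNormal b w
    set B' := MulAut.conjNormal b⁻¹ w
    set C := MulAut.conjNormal (a * b * a) w
    have hA : A * A' = w⁻¹ := (eq_inv_of_mul_eq_one_right (by rw [← mul_assoc]; exact ra))
    have hB : B * B' = w⁻¹ := (eq_inv_of_mul_eq_one_right (by rw [← mul_assoc]; exact rb))
    have : (A * A') * (B * B') * (C * C) = 1 := by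
      calc (A * A') * (B * B') * (C * C) = (A * C * B') * (A' * C * B) := by
            simp only [mul_comm, mul_left_comm]
        _ = 1 := by rw [k1, k2, one_mul]
    rw [hA, hB] at this
    rw [pow_two, pow_two]
    calc C * C = (w * w) * (w⁻¹ * w⁻¹ * (C * C)) := by simp [mul_assoc]
      _ = w * w := by rw [this, mul_one]
  have := congrArg Subtype.val h2
  rw [MulAut.conjNormal_apply] at this
  exact mul_inv_eq_iff_eq_mul.1 (by simpa [w] using this)

end Module

/-- The normal subgroup is elementary abelian. -/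
theorem elementary_of_tetra : ∀ n : ℕ, ∀ {G : Type u} [Group G] [Finite G] {x : G} (_ : Self x)
    (N : Subgroup G) [N.Normal] {a b : G}, Tetra N a b → Nat.card N = n →
    (∀ u ∈ N, ∀ v ∈ N, u * v = v * u) ∧ ∀ u ∈ N, u ^ 2 = 1 := by
  intro n
  induction n using Nat.strong_induction_on with
  | _ n ih =>
  intro G _ _ x hx N hNn a b T hn
  have hiN : Inv x N := by rw [Inv, normalizer_eq_top]; exact mem_top _
  rcases eq_or_ne N ⊥ with hN0 | hN0
  · subst hN0
    exact ⟨fun u hu v hv => by rw [mem_bot.1 hu, mem_bot.1 hv], fun u hu => by rw [mem_bot.1 hu, one_pow]⟩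
  haveI : Nontrivial N := N.nontrivial_iff_ne_bot.2 hN0
  haveI : Group.IsNilpotent N := hx.isNilpotent hiN T.not3
  set Z : Subgroup G := (center N).map N.subtype with hZdef
  have hle : Z ≤ N := map_subtype_le _
  have hNZ : ∀ u ∈ N, ∀ z ∈ Z, u * z = z * u := by
    rintro u hu _ ⟨z, hz, rfl⟩
    exact congrArg Subtype.val (mem_center_iff.1 hz ⟨u, hu⟩)
  have hsq := sq_eq_one hx T hle hNZ
  have hZ0 : Z ≠ ⊥ := fun e => by
    have := (Subgroup.map_eq_bot_iff_of_injective _ N.subtype_injective).1 e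
    exact Group.IsNilpotent.center_ne_bot (G := N) this
  have hlt : Nat.card (N.map (QuotientGroup.mk' Z)) < n := by
    have h1 := card_mul_index (Z.subgroupOf N)
    have h2 : Nat.card (N.map (QuotientGroup.mk' Z)) = (Z.subgroupOf N).index := by
      have := Subgroup.index_ker ((QuotientGroup.mk' Z).comp N.subtype)
      rw [MonoidHom.range_comp, range_subtype, ← MonoidHom.comap_ker, QuotientGroup.ker_mk'] at this
      exact this.symm
    rw [h2, ← hn]
    have h3 : 1 < Nat.card (Z.subgroupOf N) := by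
      rw [Nat.card_congr (subgroupOfEquivOfLe hle).toEquiv]
      exact Z.one_lt_card_iff_ne_bot.2 hZ0
    calc (Z.subgroupOf N).index = 1 * (Z.subgroupOf N).index := (one_mul _).symm
      _ < Nat.card (Z.subgroupOf N) * (Z.subgroupOf N).index :=
          Nat.mul_lt_mul_of_pos_right h3 (Nat.pos_of_ne_zero index_ne_zero_of_finite)
      _ = Nat.card N := h1
  have hmem : ∀ g : G, QuotientGroup.mk' Z g ∈ N.map (QuotientGroup.mk' Z) ↔ g ∈ N := fun g =>
    ⟨fun h => by
      obtain ⟨m, hm, e⟩ := h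
      have := hle ((QuotientGroup.eq (s := Z)).1 e)
      have := mul_mem hm this
      rwa [mul_inv_cancel_left] at this, fun h => mem_map_of_mem _ h⟩
  haveI : (N.map (QuotientGroup.mk' Z)).Normal := hNn.map _ (QuotientGroup.mk'_surjective Z)
  have T' : Tetra (N.map (QuotientGroup.mk' Z)) (QuotientGroup.mk' Z a) (QuotientGroup.mk' Z b) := by
    refine ⟨fun K hK hNK => ?_, fun h => T.not3 (h.trans (card_map_dvd _ _)), ?_, ?_, ?_, ?_, ?_, ?_, ?_, ?_, ?_⟩
    rotate_left
    all_goals try simp only [← map_mul, ← map_pow, ← map_inv, hmem]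
    · exact T.a3
    · exact T.an
    · exact T.b3
    · exact T.bn
    · exact T.ab3
    · exact T.abn
    · exact T.ne
    · exact T.g2
    · exact T.gn
    · have hKn : (K.comap (QuotientGroup.mk' Z)).Normal := hK.comap _
      rcases T.max _ hKn (fun m hm => mem_comap.2 (hNK (mem_map_of_mem _ hm))) with e | e
      · left; exact (map_comap_eq_self_of_surjective (QuotientGroup.mk'_surjective Z) K).symm.trans (congrArg _ e)
      · right; rw [← map_comap_eq_self_of_surjective (QuotientGroup.mk'_surjective Z) K, e,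
          map_top_of_surjective _ (QuotientGroup.mk'_surjective Z)]
  have hxq : Self (QuotientGroup.mk' Z x) :=
    hx.quotient Z fun h => T.not3 (h.trans (card_dvd_of_le hle))
  obtain ⟨hcom, hex⟩ := ih _ hlt hxq (N.map (QuotientGroup.mk' Z)) T' rfl
  have hcZ : ∀ u ∈ N, ∀ v ∈ N, u * v * u⁻¹ * v⁻¹ ∈ Z := fun u hu v hv => by
    refine (QuotientGroup.eq_one_iff _).1 ?_
    change QuotientGroup.mk' Z (u * v * u⁻¹ * v⁻¹) = 1
    rw [map_mul, map_mul, map_mul, hcom _ (mem_map_of_mem _ hu) _ (mem_map_of_mem _ hv), map_inv, map_inv]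
    group
  have hsZ : ∀ u ∈ N, u * u ∈ Z := fun u hu => by
    refine (QuotientGroup.eq_one_iff _).1 ?_
    change QuotientGroup.mk' Z (u * u) = 1
    rw [← pow_two, map_pow]
    exact hex _ (mem_map_of_mem _ hu)
  -- the commutator form
  set β : G → G → G := fun u v => u * v * u⁻¹ * v⁻¹ with hβ
  have hzz : ∀ z ∈ Z, z⁻¹ = z := fun z hz => inv_eq_of_mul_eq_one_left (by
    rw [← pow_two]; exact hsq z hz)
  have hsymm : ∀ u ∈ N, ∀ v ∈ N, β v u = β u v := fun u hu v hv => by
    have := hzz _ (hcZ u hu v hv)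
    simp only [hβ]
    rw [← this]; group
  have hmulr : ∀ u ∈ N, ∀ v ∈ N, ∀ w ∈ N, β u (v * w) = β u v * β u w := fun u hu v hv w hw => by
    simp only [hβ]
    calc u * (v * w) * u⁻¹ * (v * w)⁻¹
        = (u * v * u⁻¹ * v⁻¹) * (v * (u * w * u⁻¹ * w⁻¹)) * v⁻¹ := by group
      _ = (u * v * u⁻¹ * v⁻¹) * ((u * w * u⁻¹ * w⁻¹) * v) * v⁻¹ := by rw [hNZ v hv _ (hcZ u hu w hw)]
      _ = _ := by group
  have hmull : ∀ u ∈ N, ∀ v ∈ N, ∀ w ∈ N, β (u * v) w = β u w * β v w := fun u hu v hv w hw => by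
    rw [← hsymm (u * v) (mul_mem hu hv) w hw, hmulr w hw u hu v hv, hsymm u hu w hw, hsymm v hv w hw]
  have hcN : ∀ g : G, ∀ u ∈ N, g * u * g⁻¹ ∈ N := fun g u hu => hNn.conj_mem u hu g
  have hrot : ∀ g : G, Self g → ∀ u ∈ N, ∀ v ∈ N, β u (g * v * g⁻¹) = β (g * u * g⁻¹) v := by
    intro g hg u hu v hv
    have hig : Inv g N := by rw [Inv, normalizer_eq_top]; exact mem_top _
    have h0 : ∀ w ∈ N, β w (g * w * g⁻¹) = 1 := fun w hw => by
      simp only [hβ]
      rw [hg.commute_conj hig T.not3 hw]; group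
    have h1 := h0 (u * v) (mul_mem hu hv)
    rw [show g * (u * v) * g⁻¹ = (g * u * g⁻¹) * (g * v * g⁻¹) by group,
      hmulr _ (mul_mem hu hv) _ (hcN g u hu) _ (hcN g v hv), hmull u hu v hv _ (hcN g u hu),
      hmull u hu v hv _ (hcN g v hv), h0 u hu, h0 v hv, one_mul, mul_one] at h1
    calc β u (g * v * g⁻¹) = (β v (g * u * g⁻¹))⁻¹ := eq_inv_of_mul_eq_one_right h1
      _ = β v (g * u * g⁻¹) := hzz _ (hcZ v hv _ (hcN g u hu))
      _ = _ := (hsymm _ (hcN g u hu) v hv)
  have ha := hx.of_quotient_order N T.not3 T.a3 T.an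
  have hb := hx.of_quotient_order N T.not3 T.b3 T.bn
  have hab := hx.of_quotient_order N T.not3 T.ab3 T.abn
  have hrad : ∀ u ∈ N, (a * b) * u * (a * b)⁻¹ * ((b * a) * u * (b * a)⁻¹) ∈ Z := by
    intro u hu
    set p := (a * b) * u * (a * b)⁻¹ * ((b * a) * u * (b * a)⁻¹) with hp
    have hpN : p ∈ N := mul_mem (hcN _ u hu) (hcN _ u hu)
    refine ⟨⟨p, hpN⟩, mem_center_iff.2 fun v => Subtype.ext ?_, rfl⟩
    have h1 := hrot (a * b) hab u hu v v.2
    have h2 : β u ((a * b) * (v : G) * (a * b)⁻¹) = β ((b * a) * u * (b * a)⁻¹) v := by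
      rw [show (a * b) * (v : G) * (a * b)⁻¹ = a * (b * v * b⁻¹) * a⁻¹ by group,
        hrot a ha u hu _ (hcN b v v.2), hrot b hb _ (hcN a u hu) v v.2]
      congr 1
      group
    have h3 : β p v = 1 := by
      rw [hmull _ (hcN _ u hu) _ (hcN _ u hu) v v.2, ← h1, ← h2, ← pow_two]
      exact hsq _ (hcZ u hu _ (hcN _ v v.2))
    simp only [hβ] at h3
    exact (mul_inv_eq_one.1 (by rw [← h3]; group : p * v * (v * p)⁻¹ = 1)).symm
  -- elements centralizing `N / Z`
  let K : Subgroup G :=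
    { carrier := {g | ∀ u ∈ N, g * u * g⁻¹ * u⁻¹ ∈ Z}
      one_mem' := fun u hu => by simp
      mul_mem' := fun {g g'} hg hg' u hu => by
        have h1 := hg (g' * u * g'⁻¹) (hcN g' u hu)
        have h2 := hg' u hu
        have := mul_mem h1 h2
        simpa [mul_assoc] using this
      inv_mem' := fun {g} hg u hu => by
        have h1 := inv_mem (hg (g⁻¹ * u * g) (by simpa using hcN g⁻¹ u hu))
        simpa [mul_assoc] using h1 }
  have hKn : K.Normal := ⟨fun g hg c u hu => by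
    have h1 := hg (c⁻¹ * u * c) (by simpa using hcN c⁻¹ u hu)
    have h2 := (inferInstance : Z.Normal).conj_mem _ h1 c
    simpa [mul_assoc] using h2⟩
  have hkK : (b * a)⁻¹ * (a * b) ∈ K := by
    intro u hu
    have h1 := mul_mem (hrad u hu) (inv_mem (hsZ ((b * a) * u * (b * a)⁻¹) (hcN _ u hu)))
    have h2 : (a * b) * u * (a * b)⁻¹ * ((b * a) * u * (b * a)⁻¹)⁻¹ ∈ Z := by
      simpa [mul_assoc] using h1
    have h3 := (inferInstance : Z.Normal).conj_mem _ h2 (b * a)⁻¹
    simpa [mul_assoc] using h3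
  rcases T.max K hKn (fun g hg u hu => hcZ g hg u hu) with e | e
  · exact absurd (e ▸ hkK) T.ne
  have hZN : ∀ u ∈ N, u ∈ Z := by
    intro u hu
    have h1 : x * u * x⁻¹ * u⁻¹ ∈ Z := (e.ge (mem_top x) : x ∈ K) u hu
    have h2 : u * x * u⁻¹ * x⁻¹ ∈ Z := by
      have := inv_mem h1
      rwa [show (x * u * x⁻¹ * u⁻¹)⁻¹ = u * x * u⁻¹ * x⁻¹ by group] at this
    have hiZ : Inv x Z := by rw [Inv, normalizer_eq_top]; exact mem_top _
    have hZ3 : ¬ 3 ∣ Nat.card Z := fun h => T.not3 (h.trans (card_dvd_of_le hle))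
    obtain ⟨h, hh, hm⟩ := hx.lift hiZ hZ3 h2
    have h5 := hx.notMem T.not3 hm (mul_mem (hle hh) hu)
    rw [eq_inv_of_mul_eq_one_right h5]
    exact inv_mem hh
  exact ⟨fun u hu v hv => hNZ u hu v (hZN v hv), fun u hu => hsq u (hZN u hu)⟩

/-- No normal subgroup below a quotient with a Frobenius subgroup of order 21. -/
theorem eq_bot_of_tetra_seven (hx : Self x) (N : Subgroup G) [hN : N.Normal] {a b : G} (T : Tetra N a b)
    {u h : G} (hu7 : u ^ 7 ∈ N) (hu : u ∉ N) (hh3 : h ^ 3 ∈ N) (hh : h ∉ N)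
    (hrel : h * u * h⁻¹ * (u * u)⁻¹ ∈ N) (hord : ∀ i : ℕ, (u ^ i * h) ^ 3 ∈ N ∧ u ^ i * h ∉ N) : N = ⊥ := by
  obtain ⟨hcom, hsq⟩ := elementary_of_tetra _ hx N T rfl
  haveI : IsMulCommutative N := ⟨⟨fun u v => Subtype.ext (hcom u u.2 v v.2)⟩⟩
  letI : CommGroup N := { (inferInstance : Group N) with mul_comm := mul_comm' }
  have hNN : ∀ n ∈ N, ∀ z ∈ N, n * z = z * n := hcom
  let c : G →* MulAut N := MulAut.conjNormal
  have hc : ∀ {g g' : G}, g⁻¹ * g' ∈ N → c g = c g' := fun hg => MulEquiv.ext (conj_congr hNN hg)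
  have hcker : ∀ {g : G}, g ∈ N → c g = 1 := fun {g} hg => by
    rw [← map_one c]; exact hc (by simpa using inv_mem hg)
  have hU7 : c u ^ 7 = 1 := by rw [← map_pow, hcker hu7]
  have hHU : c h * c u = c u * c u * c h := by
    have h1 : c (u * u) = c (h * u * h⁻¹) := hc (by
      have := hN.conj_mem _ hrel (u * u)⁻¹
      simpa [mul_assoc] using this)
    rw [← map_mul, ← map_mul c u u, h1, ← map_mul]; group
  have hHUi : ∀ i : ℕ, c h * c u ^ i = c u ^ (2 * i) * c h := by
    intro i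
    induction i with
    | zero => simp
    | succ i ih =>
      rw [pow_succ, ← mul_assoc, ih, mul_assoc, hHU, show 2 * (i + 1) = 2 * i + 2 by ring, pow_add, pow_two]
      simp only [mul_assoc]
  have hper : ∀ (i : ℕ), c u ^ (i + 7) = c u ^ i := fun i => by rw [pow_add, hU7, mul_one]
  have hperm : ∀ f : ℕ → N, (∀ i, f (i + 7) = f i) →
      ∏ i ∈ Finset.range 7, f (3 * i) = ∏ i ∈ Finset.range 7, f i := by
    intro f hf
    simp only [Finset.prod_range_succ, Finset.prod_range_zero]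
    rw [show 3 * 3 = 2 + 7 from rfl, show 3 * 4 = 5 + 7 from rfl, show 3 * 5 = 1 + 7 + 7 from rfl,
      show 3 * 6 = 4 + 7 + 7 from rfl]
    simp only [hf, mul_zero, one_mul, show 3 * 1 = 3 from rfl, show 3 * 2 = 6 from rfl]
    ac_rfl
  let S : N → N := fun w => ∏ i ∈ Finset.range 7, (c u ^ i) w
  have hSmul : ∀ v w : N, S (v * w) = S v * S w := fun v w => by
    simp only [S, map_mul, Finset.prod_mul_distrib]
  refine (eq_bot_iff_forall _).2 fun z hz => ?_
  have hz1 := eq_one_of_kernel hx T.max T.not3 hNN (k := 1) hu (fun z hz => ?_) z hz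
  · simpa using hz1
  set w : N := ⟨z, hz⟩
  have hfix : c u (S w) = S w := by
    simp only [S, map_prod, ← MulAut.mul_apply, ← pow_succ']
    have h7 : (c u ^ 7) w = (c u ^ 0) w := by rw [hU7, pow_zero]
    simp only [Finset.prod_range_succ, Finset.prod_range_zero]
    rw [show (0 + 1 : ℕ) = 1 from rfl, show (1 + 1 : ℕ) = 2 from rfl, show (2 + 1 : ℕ) = 3 from rfl,
      show (3 + 1 : ℕ) = 4 from rfl, show (4 + 1 : ℕ) = 5 from rfl, show (5 + 1 : ℕ) = 6 from rfl,
      show (6 + 1 : ℕ) = 7 from rfl, h7]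
    ac_rfl
  have hsum : w ^ 7 * S (c h w) * S (c h (c h w)) = 1 := by
    have h1 : ∀ i : ℕ, w * (c u ^ i) (c h w) * (c u ^ (3 * i)) (c h (c h w)) = 1 := fun i => by
      have := (hx.of_quotient_order N T.not3 (hord i).1 (hord i).2).module_triple T.not3 w
      have e : c (u ^ i * h) * c (u ^ i * h) = c u ^ (3 * i) * (c h * c h) := by
        rw [map_mul, map_pow, mul_assoc, ← mul_assoc (c h), hHUi, show 3 * i = i + 2 * i by ring, pow_add]
        simp only [mul_assoc]
      change w * c (u ^ i * h) w * c (u ^ i * h) (c (u ^ i * h) w) = 1 at this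
      rw [← MulAut.mul_apply, e, map_mul, map_pow] at this
      exact this
    have h2 : ∏ i ∈ Finset.range 7, (w * (c u ^ i) (c h w) * (c u ^ (3 * i)) (c h (c h w))) = 1 :=
      Finset.prod_eq_one fun i _ => h1 i
    rw [Finset.prod_mul_distrib, Finset.prod_mul_distrib, Finset.prod_const, Finset.card_range,
      hperm (fun i => (c u ^ i) (c h (c h w))) (fun i => by simp only [hper])] at h2
    exact h2
  have hh1 : w * c h w * c h (c h w) = 1 :=
    (hx.of_quotient_order N T.not3 hh3 hh).module_triple T.not3 w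
  have hS1 : S w * S (c h w) * S (c h (c h w)) = 1 := by
    rw [← hSmul, ← hSmul, hh1]
    simp [S]
  have hw7 : w ^ 7 = w := by
    refine Subtype.ext ?_
    have : z ^ 7 = z := by
      calc z ^ 7 = (z ^ 2) ^ 3 * z := by group
        _ = z := by rw [hsq z hz, one_pow, one_mul]
    simpa [w] using this
  have hSw : S w = w := by
    rw [hw7] at hsum
    exact mul_right_cancel (mul_right_cancel (hS1.trans hsum.symm))
  have := congrArg Subtype.val (show c u w = w by rw [← hSw]; exact hfix)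
  rw [MulAut.conjNormal_apply] at this
  simpa [w] using mul_inv_eq_iff_eq_mul.1 this

end Cfsg.Agent.SelfThree
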