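import Cfsg.Agent.Lib.SelfThree.Sixty

/-!
# Invariant subgroups above an elementary abelian subgroup with quotient of order sixty
-/

set_option autoImplicit false
set_option linter.style.haveILetI false
set_option linter.unusedSectionVars false

namespace Cfsg.Agent.SelfThree

open Subgroup

universe u

variable {G : Type u} [Group G] [Finite G] {x : G}

/-- An elementary abelian normal subgroup with simple quotient of order sixty. -/
structure ShapeA (K : Subgroup G) [K.Normal] : Prop where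
  not3 : ¬ 3 ∣ Nat.card K
  index : K.index = 60
  simple : IsSimpleGroup (G ⧸ K)
  comm : ∀ u ∈ K, ∀ v ∈ K, u * v = v * u
  sq : ∀ u ∈ K, u ^ 2 = 1

variable {K : Subgroup G} [hKn : K.Normal]

theorem ShapeA.inv_mk (y : G) : Inv y K := by rw [Inv, normalizer_eq_top]; exact mem_top _

/-- The preimage of a subgroup of the quotient. -/
theorem card_comap_mk (P : Subgroup (G ⧸ K)) :
    Nat.card (P.comap (QuotientGroup.mk' K)) = Nat.card K * Nat.card P := by
  have h := card_mul_index (P.comap (QuotientGroup.mk' K))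
  rw [index_comap_of_surjective P (QuotientGroup.mk'_surjective K)] at h
  have hP := card_mul_index P
  have hK := card_mul_index K
  rw [← index_eq_card] at hP
  have hi : 0 < P.index := Nat.pos_of_ne_zero index_ne_zero_of_finite
  refine Nat.eq_of_mul_eq_mul_right hi ?_
  rw [mul_assoc, hP, h, hK]

theorem inv_map {H : Type u} [Group H] {f : G →* H} (_hf : Function.Surjective f) {y : G} {L : Subgroup G}
    (hi : Inv y L) : Inv (f y) (L.map f) :=
  le_normalizer_map f ⟨y, hi, rfl⟩

theorem inv_comap {H : Type u} [Group H] {f : G →* H} {y : G} {L : Subgroup H} (hi : Inv (f y) L) :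
    Inv y (L.comap f) := by
  refine mem_normalizer_iff.2 fun h => ?_
  simp only [mem_comap, map_mul, map_inv]
  exact mem_normalizer_iff.1 hi (f h)

variable (S : ShapeA K) (hx : Self x)
include S hx

theorem ShapeA.self_quotient : Self (QuotientGroup.mk' K x) := hx.quotient K S.not3

theorem ShapeA.card_quotient : Nat.card (G ⧸ K) = 60 := by rw [← index_eq_card, S.index]

/-- There are exactly two maximal invariant subgroups of order prime to three. -/
theorem ShapeA.two_tops : ∃ T U : Subgroup G, T ≠ U ∧ (∀ W, W = T ∨ W = U →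
      K ≤ W ∧ Inv x W ∧ Nat.card W = 4 * Nat.card K) ∧
    (∀ L : Subgroup G, Inv x L → ¬ 3 ∣ Nat.card L → L ≤ K ∨ L ≤ T ∨ L ≤ U) ∧
    (∀ t : G, t * x * t⁻¹ = x⁻¹ → ¬ Inv t T ∧ ¬ Inv t U) := by
  haveI := S.simple
  haveI : Fact (Nat.Prime 2) := ⟨Nat.prime_two⟩
  have hq := S.self_quotient hx
  have h60 := S.card_quotient hx
  obtain ⟨P, Q, hne, hPQ⟩ := hq.two_fours h60
  have h4 : ∀ R : Sylow 2 (G ⧸ K), Nat.card (R : Subgroup (G ⧸ K)) = 4 := fun R => by
    simpa using SmallSimple.Basic.card_sylow_eq_pow (p := 2) (a := 2) (m := 15) (by rw [h60]; norm_num) (by norm_num) R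
  refine ⟨(P : Subgroup (G ⧸ K)).comap (QuotientGroup.mk' K), (Q : Subgroup (G ⧸ K)).comap (QuotientGroup.mk' K),
    fun e => hne (Sylow.ext (comap_injective (QuotientGroup.mk'_surjective K) e)), ?_, ?_, ?_⟩
  · rintro W (rfl | rfl) <;>
      refine ⟨(QuotientGroup.le_comap_mk' K _), inv_comap ((hPQ _).2 ?_), by rw [card_comap_mk, h4, mul_comm]⟩
    exacts [Or.inl rfl, Or.inr rfl]
  · intro L hi h3
    rcases hq.sixty_invariant h60 (inv_map (QuotientGroup.mk'_surjective K) hi)
      (fun h => h3 (h.trans (card_map_dvd _ _))) with e | ⟨R, hR⟩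
    · left
      rw [← QuotientGroup.ker_mk' K]
      exact (map_eq_bot_iff L).1 e
    · right
      have hL : L ≤ (R : Subgroup (G ⧸ K)).comap (QuotientGroup.mk' K) := map_le_iff_le_comap.1 hR.ge
      rcases (hPQ R).1 (hR ▸ inv_map (QuotientGroup.mk'_surjective K) hi) with rfl | rfl
      · exact Or.inl hL
      · exact Or.inr hL
  · intro t ht
    have ht' : QuotientGroup.mk' K t * QuotientGroup.mk' K x * (QuotientGroup.mk' K t)⁻¹ =
        (QuotientGroup.mk' K x)⁻¹ := by rw [← map_inv, ← map_inv, ← map_mul, ← map_mul, ht]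
    refine ⟨fun h => hq.sixty_swap h60 ((hPQ P).2 (Or.inl rfl)) ht' ?_,
      fun h => hq.sixty_swap h60 ((hPQ Q).2 (Or.inr rfl)) ht' ?_⟩ <;>
    · have := inv_map (QuotientGroup.mk'_surjective K) h
      rwa [map_comap_eq_self_of_surjective (QuotientGroup.mk'_surjective K)] at this

/-- Elements outside `K` of an invariant subgroup fix the square root of `|K|` elements of `K`. -/
theorem ShapeA.card_fixed {T : Subgroup G} (hi : Inv x T) (h3 : ¬ 3 ∣ Nat.card T) {v : G} (hv : v ∈ T)
    (hvK : v ∉ K) : Nat.card K = Nat.card (K ⊓ centralizer ({v} : Set G) : Subgroup G) ^ 2 := by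
  haveI := S.simple
  have hq := S.self_quotient hx
  have h60 := S.card_quotient hx
  have hiT := inv_map (QuotientGroup.mk'_surjective K) hi
  have hv' : QuotientGroup.mk' K v ∈ T.map (QuotientGroup.mk' K) := mem_map_of_mem _ hv
  have hv1 : QuotientGroup.mk' K v ≠ 1 := fun e => hvK ((QuotientGroup.eq_one_iff v).1 e)
  rcases hq.sixty_invariant h60 hiT (fun h => h3 (h.trans (card_map_dvd _ _))) with e | ⟨R, hR⟩
  · rw [e] at hv'; exact absurd (mem_bot.1 hv') hv1
  rw [← hR] at hiT hv'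
  have hvo : orderOf (QuotientGroup.mk' K v) = 2 := orderOf_eq_prime (hp := ⟨Nat.prime_two⟩)
    (by rw [pow_two]; exact hq.sixty_sq h60 hiT hv') hv1
  obtain ⟨t₀, ht₀⟩ := hq.sixty_inverter h60
  obtain ⟨s, rfl⟩ := QuotientGroup.mk'_surjective K t₀
  -- an inverter of `x` itself in the coset of `s`
  have hsx : s * x * s⁻¹ * x ∈ K := (QuotientGroup.eq_one_iff _).1 (by
    change QuotientGroup.mk' K (s * x * s⁻¹ * x) = 1
    rw [map_mul, map_mul, map_mul, map_inv, ht₀, inv_mul_cancel])
  obtain ⟨h, hh, hhs⟩ := hx.inv.exists_conj_of_coset (ShapeA.inv_mk x⁻¹) S.not3 hsx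
  rw [mul_inv_cancel_right] at hhs
  set t := h⁻¹ * s with ht
  have htx : t * x * t⁻¹ = x⁻¹ := by
    calc t * x * t⁻¹ = h⁻¹ * (s * x * s⁻¹) * h := by simp only [ht]; group
      _ = x⁻¹ := by rw [← hhs]; group
  have htq : QuotientGroup.mk' K t = QuotientGroup.mk' K s := by
    rw [ht, map_mul, show QuotientGroup.mk' K h⁻¹ = 1 from (QuotientGroup.eq_one_iff _).2 (inv_mem hh), one_mul]
  obtain ⟨g, hg⟩ := hq.sixty_involutions h60 ht₀ hvo
  obtain ⟨g, rfl⟩ := QuotientGroup.mk'_surjective K g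
  have hsq := (hx.conj g).card_eq_sq (ShapeA.inv_mk _) S.not3 (t := g * t * g⁻¹) (by
    calc g * t * g⁻¹ * (g * x * g⁻¹) * (g * t * g⁻¹)⁻¹ = g * (t * x * t⁻¹) * g⁻¹ := by group
      _ = _ := by rw [htx]; group) (ShapeA.inv_mk _)
  have hk : (g * t * g⁻¹)⁻¹ * v ∈ K := (QuotientGroup.eq_one_iff _).1 (by
    change QuotientGroup.mk' K ((g * t * g⁻¹)⁻¹ * v) = 1
    rw [map_mul, map_inv, map_mul, map_mul, map_inv, htq, hg, inv_mul_cancel])
  rw [hsq]
  congr 3
  ext z
  simp only [mem_inf, mem_centralizer_singleton_iff]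
  refine and_congr_right fun hz => ?_
  obtain ⟨k, hkK, rfl⟩ : ∃ k ∈ K, v = g * t * g⁻¹ * k := ⟨_, hk, by group⟩
  have hc := S.comm z hz k hkK
  constructor
  · intro e
    calc z * (g * t * g⁻¹ * k) = (g * t * g⁻¹ * z) * k := by rw [← mul_assoc, e]
      _ = g * t * g⁻¹ * k * z := by rw [mul_assoc, hc, ← mul_assoc]
  · intro e
    have : z * (g * t * g⁻¹) * k = g * t * g⁻¹ * z * k := by
      rw [mul_assoc z, e, mul_assoc, ← hc, ← mul_assoc]
    exact mul_right_cancel this

omit S in
/-- A tetrahedral pair modulo `K`. -/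
theorem exists_tetra (hK3 : ¬ 3 ∣ Nat.card K) (hK60 : K.index = 60) (hs : IsSimpleGroup (G ⧸ K)) :
    ∃ b : G, Tetra K x b := by
  haveI := hs
  have hq := hx.quotient K hK3
  obtain ⟨b, h1, h2, h3, h4, h5, h6, h7⟩ := hq.sixty_pair (by rw [← index_eq_card, hK60])
  obtain ⟨b, rfl⟩ := QuotientGroup.mk'_surjective K b
  have hm : ∀ g : G, QuotientGroup.mk' K g = 1 ↔ g ∈ K := fun g => QuotientGroup.eq_one_iff g
  refine ⟨b, fun L hL hKL => ?_, hK3, ?_, ?_, ?_, ?_, ?_, ?_, ?_, ?_, ?_⟩
  · rcases (hL.map _ (QuotientGroup.mk'_surjective K)).eq_bot_or_eq_top with e | e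
    · left
      exact le_antisymm (by rw [← QuotientGroup.ker_mk' K]; exact (map_eq_bot_iff L).1 e) hKL
    · right
      have := congrArg (Subgroup.comap (QuotientGroup.mk' K)) e
      rwa [comap_map_eq, QuotientGroup.ker_mk', sup_of_le_left hKL, comap_top] at this
  all_goals rw [← hm]
  · rw [map_pow]; exact hq.pow_three
  · exact hq.ne_one
  · rw [map_pow]; exact h1
  · exact h2
  · rw [map_pow, map_mul]; exact h3
  · rw [map_mul]; exact h4
  · rw [map_mul, map_inv, map_mul, map_mul]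
    exact fun e => h5 (inv_mul_eq_one.1 e)
  · rw [map_mul, map_mul, map_mul]; exact h6
  · rw [map_mul, map_mul]; exact h7

end Cfsg.Agent.SelfThree
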