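import Cfsg.Agent.Lib.SelfThree.Module

/-!
# An elementary abelian normal subgroup with simple quotient of order sixty
-/

set_option autoImplicit false
set_option linter.style.haveILetI false
set_option linter.unusedSectionVars false

namespace Cfsg.Agent.SelfThree

open Subgroup Pointwise

universe u

variable {G : Type u} [Group G] [Finite G] {x : G}

/-- A characteristic subgroup of a normalized subgroup is normalized. -/
theorem Inv.map_char {y : G} {L : Subgroup G} (hi : Inv y L) (K : Subgroup L) [hK : K.Characteristic] :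
    Inv y (K.map L.subtype) := by
  have h : ∀ y' : G, Inv y' L → ∀ k ∈ K.map L.subtype, y' * k * y'⁻¹ ∈ K.map L.subtype := by
    rintro y' hi' _ ⟨k, hk, rfl⟩
    exact ⟨L.normalizerMonoidHom ⟨y', hi'⟩ k,
      (characteristic_iff_map_le.1 hK _) (mem_map_of_mem _ hk), rfl⟩
  refine mem_normalizer_iff.2 fun k => ⟨h y hi k, fun hk => ?_⟩
  simpa [mul_assoc] using h y⁻¹ hi.inv _ hk

/-! ### The quotient -/

/-- The subgroups of order four normalized by `x` in a simple group of order sixty. -/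
theorem Self.two_fours [IsSimpleGroup G] (hx : Self x) (h60 : Nat.card G = 60) :
    ∃ P Q : Sylow 2 G, P ≠ Q ∧ (∀ R : Sylow 2 G, Inv x (R : Subgroup G) ↔ R = P ∨ R = Q) := by
  classical
  haveI : Fact (Nat.Prime 2) := ⟨Nat.prime_two⟩
  haveI : Fact (Nat.Prime 3) := ⟨Nat.prime_three⟩
  haveI := Fintype.ofFinite (Sylow 2 G)
  have hG : ¬ IsMulCommutative G := SmallSimple.Basic.not_comm_of_not_prime (by rw [h60]; norm_num)
  have h2 : 2 ∣ Nat.card G := by rw [h60]; norm_num
  obtain ⟨hd, hodd, h1, hf⟩ := SmallSimple.Basic.sylow_count (p := 2) hG h2 (a := 2) (m := 15)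
    (by rw [h60]; norm_num) (by norm_num)
  have hn : Nat.card (Sylow 2 G) = 5 ∨ Nat.card (Sylow 2 G) = 15 := by
    have hle := Nat.le_of_dvd (by norm_num) hd
    rw [h60] at hf
    generalize Nat.card (Sylow 2 G) = n at hd hodd h1 hle hf ⊢
    interval_cases n <;> revert hd hodd hf <;> decide
  have hfix : ∀ R : Sylow 2 G, x • R = R ↔ Inv x (R : Subgroup G) := fun R => by
    rw [Sylow.smul_eq_iff_mem_normalizer]
    exact Iff.rfl
  let σ : Function.End (Sylow 2 G) := fun R => x • R
  have hσ : σ ^ 3 ^ 1 = 1 := by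
    funext R
    change x • (x • (x • R)) = R
    rw [smul_smul, smul_smul, hx.mul_three, one_smul]
  have hmod := Equiv.Perm.card_fixedPoints_modEq hσ
  have hcard : Fintype.card (Function.fixedPoints σ) = Nat.card {R : Sylow 2 G // Inv x (R : Subgroup G)} := by
    rw [Nat.card_eq_fintype_card]
    exact Fintype.card_congr (Equiv.subtypeEquivRight hfix)
  have hP4 : ∀ R : Sylow 2 G, Nat.card (R : Subgroup G) = 4 := fun R => by
    simpa using SmallSimple.Basic.card_sylow_eq_pow (p := 2) (a := 2) (m := 15) (by rw [h60]; norm_num) (by norm_num) R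
  have hn5 : Nat.card (Sylow 2 G) = 5 := by
    rcases hn with h | h
    · exact h
    exfalso
    have P : Sylow 2 G := default
    have hN := SmallSimple.Basic.card_normalizer_mul P
    rw [h, h60] at hN
    have hPN : normalizer ((P : Subgroup G) : Set G) = (P : Subgroup G) :=
      (eq_of_le_of_card_ge le_normalizer (by rw [hP4]; omega)).symm
    refine SmallSimple.Basic.not_normalizer_le_centralizer hG h2 P fun g hg => ?_
    rw [hPN] at hg
    haveI : IsMulCommutative (P : Subgroup G) :=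
      IsPGroup.isMulCommutative_of_card_eq_prime_sq (p := 2) (by rw [hP4]; norm_num)
    exact mem_centralizer_iff.2 fun y hy =>
      congrArg Subtype.val (mul_comm' (⟨y, hy⟩ : (P : Subgroup G)) ⟨g, hg⟩)
  have hlt : Nat.card {R : Sylow 2 G // Inv x (R : Subgroup G)} < 5 := by
    rw [← hn5, Nat.card_eq_fintype_card, Nat.card_eq_fintype_card]
    obtain ⟨R₀, hR₀⟩ : ∃ R : Sylow 2 G, ¬ Inv x (R : Subgroup G) := by
      by_contra hall
      push Not at hall
      refine hx.ne_one (SmallSimple.Basic.toPermHom_injective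
        (normalizer (((default : Sylow 2 G) : Subgroup G) : Set G))
        (SmallSimple.Basic.normalizer_ne_top hG h2 default) ?_)
      refine Equiv.ext fun q => ?_
      obtain ⟨g, rfl⟩ := QuotientGroup.mk_surjective q
      rw [map_one, Equiv.Perm.one_apply]
      change ((x * g : G) : G ⧸ normalizer (((default : Sylow 2 G) : Subgroup G) : Set G)) = (g : _)
      refine (QuotientGroup.eq.2 ?_).symm
      have h := hall (g • (default : Sylow 2 G))
      rw [← hfix] at h
      exact Sylow.smul_eq_iff_mem_normalizer.1 (by rw [mul_smul, mul_smul, h, inv_smul_smul])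
    exact Fintype.card_subtype_lt (x := R₀) hR₀
  have hmod' : Nat.card (Sylow 2 G) % 3 = Fintype.card (Function.fixedPoints σ) % 3 := by
    rw [Nat.card_eq_fintype_card]; exact hmod
  rw [hn5, hcard] at hmod'
  have h2' : Nat.card {R : Sylow 2 G // Inv x (R : Subgroup G)} = 2 := by omega
  obtain ⟨⟨P, hP⟩, ⟨Q, hQ⟩, hne, hall⟩ := Nat.card_eq_two_iff.1 h2'
  refine ⟨P, Q, fun e => hne (Subtype.ext e), fun R => ⟨fun hR => ?_, ?_⟩⟩
  · have := hall.ge (Set.mem_univ (⟨R, hR⟩ : {R : Sylow 2 G // Inv x (R : Subgroup G)}))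
    simpa using this
  · rintro (rfl | rfl) <;> assumption

/-- Invariant subgroups of order prime to three in a simple group of order sixty. -/
theorem Self.sixty_invariant [IsSimpleGroup G] (hx : Self x) (h60 : Nat.card G = 60) {L : Subgroup G}
    (hi : Inv x L) (h3 : ¬ 3 ∣ Nat.card L) : L = ⊥ ∨ ∃ P : Sylow 2 G, (P : Subgroup G) = L := by
  haveI : Fact (Nat.Prime 2) := ⟨Nat.prime_two⟩
  have hmod := hx.card_mod_three hi h3
  have hd := card_subgroup_dvd_card L
  rw [h60] at hd
  have h5 : ¬ 5 ∣ Nat.card L := by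
    intro h5
    haveI : Fact (Nat.Prime 5) := ⟨by norm_num⟩
    obtain ⟨y, hy⟩ := exists_prime_orderOf_dvd_card' (G := L) 5 h5
    -- the five-part is unique, hence invariant and centralized
    have hLn : Nat.card (Sylow 5 L) = 1 := by
      have hle := Nat.le_of_dvd (by norm_num) hd
      obtain ⟨k, hk⟩ := h5
      have hs := card_sylow_modEq_one 5 L
      have P : Sylow 5 L := default
      have h1 := P.card_dvd_index
      have h2 := card_mul_index (P : Subgroup L)
      rw [SmallSimple.Basic.card_sylow_eq_pow (p := 5) (a := 1) (m := k) (by rw [pow_one]; exact hk)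
        (fun h => by
          have h25 : 5 * 5 ∣ 60 := (Nat.mul_dvd_mul_left 5 h).trans (hk ▸ hd)
          omega) P, pow_one, hk] at h2
      rw [Nat.eq_of_mul_eq_mul_left (by norm_num) h2] at h1
      have hk12 : k ∣ 12 := Nat.dvd_of_mul_dvd_mul_left (by norm_num) (hk ▸ hd : 5 * k ∣ 5 * 12)
      rw [hk] at hmod h3
      have hk12' := Nat.le_of_dvd (by norm_num) hk12
      have hnle := Nat.le_of_dvd (Nat.pos_of_ne_zero (by rintro rfl; omega)) h1
      rw [Nat.ModEq] at hs
      generalize Nat.card (Sylow 5 L) = n at hs h1 hnle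
      interval_cases k <;> omega
    haveI := (Nat.card_eq_one_iff_unique.1 hLn).1
    have P : Sylow 5 L := default
    haveI : Fact (Nat.Prime 3) := ⟨Nat.prime_three⟩
    set Q : Subgroup G := (P : Subgroup L).map L.subtype
    have hQi : Inv x Q := by
      haveI hc : (P : Subgroup L).Characteristic := Sylow.characteristic_of_subsingleton P
      exact hi.map_char _
    have hQ5 : Nat.card Q = 5 := by
      obtain ⟨k, hk⟩ := h5
      rw [card_map_of_injective L.subtype_injective]
      simpa using SmallSimple.Basic.card_sylow_eq_pow (p := 5) (a := 1) (m := k) (by rw [pow_one]; exact hk)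
        (fun h => by
          have h25 : 5 * 5 ∣ 60 := (Nat.mul_dvd_mul_left 5 h).trans (hk ▸ hd)
          omega) P
    have := hx.card_mod_three hQi (by rw [hQ5]; norm_num)
    omega
  have hcases : Nat.card L = 1 ∨ Nat.card L = 4 := by
    have hle := Nat.le_of_dvd (by norm_num) hd
    generalize Nat.card L = l at hmod hd h3 h5 hle ⊢
    interval_cases l <;> omega
  rcases hcases with h | h
  · exact Or.inl (card_eq_one.1 h)
  · refine Or.inr ⟨Sylow.ofCard L ?_, rfl⟩
    rw [h, h60, show (60 : ℕ) = 2 ^ 2 * 15 by norm_num,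
      Nat.factorization_mul (by norm_num) (by norm_num), Finsupp.add_apply,
      Nat.Prime.factorization_pow Nat.prime_two, Finsupp.single_eq_same,
      Nat.factorization_eq_zero_of_not_dvd (show ¬ 2 ∣ 15 by norm_num)]
    norm_num

/-- An inverting involution exchanges the two invariant Sylow two-subgroups. -/
theorem Self.sixty_swap [IsSimpleGroup G] (hx : Self x) (h60 : Nat.card G = 60) {P : Sylow 2 G}
    (hP : Inv x (P : Subgroup G)) {t : G} (ht : t * x * t⁻¹ = x⁻¹) : ¬ Inv t (P : Subgroup G) := by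
  intro htP
  haveI : Fact (Nat.Prime 2) := ⟨Nat.prime_two⟩
  have hP4 : Nat.card (P : Subgroup G) = 4 := by
    simpa using SmallSimple.Basic.card_sylow_eq_pow (p := 2) (a := 2) (m := 15) (by rw [h60]; norm_num) (by norm_num) P
  have hsq := hx.card_eq_sq hP (by rw [hP4]; norm_num) ht htP
  -- the involution normalizes a Sylow two-subgroup, hence lies in it
  have htmem : t ∈ (P : Subgroup G) := by
    have hT : IsPGroup 2 ((P : Subgroup G) ⊔ zpowers t : Subgroup G) :=
      P.2.to_sup_of_normal_left' (IsPGroup.of_card (n := 1) (by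
        rw [Nat.card_zpowers, hx.inverter_order ht, pow_one])) (zpowers_le.2 htP)
    rw [← P.3 hT le_sup_left]
    exact mem_sup_right (mem_zpowers t)
  have h1 : x * t * x⁻¹ ∈ (P : Subgroup G) := hP.conj_mem htmem
  have h2 : x = t * (x * t * x⁻¹) := by
    calc x = (x⁻¹ * x⁻¹) := by rw [← mul_inv_rev, hx.mul_self, inv_inv]
      _ = (t * x * t⁻¹) * (t * t) * x⁻¹ := by rw [ht, hx.sq_eq_one ht, mul_one]
      _ = _ := by group
  exact hx.ne_one (hx.notMem (by rw [hP4]; norm_num) (mem_zpowers x) (by have := mul_mem htmem h1; rwa [← h2] at this))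

theorem Self.sixty_inverter [IsSimpleGroup G] (hx : Self x) (h60 : Nat.card G = 60) :
    ∃ t : G, t * x * t⁻¹ = x⁻¹ :=
  hx.exists_inverter (SmallSimple.Basic.not_comm_of_not_prime (by rw [h60]; norm_num))

/-- In a simple group of order sixty every involution is conjugate to a given inverting one. -/
theorem Self.sixty_involutions [IsSimpleGroup G] (hx : Self x) (h60 : Nat.card G = 60) {t v : G}
    (ht : t * x * t⁻¹ = x⁻¹) (hv : orderOf v = 2) : ∃ g : G, g * t * g⁻¹ = v := by
  classical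
  haveI : Fact (Nat.Prime 2) := ⟨Nat.prime_two⟩
  obtain ⟨P, Q, -, hPQ⟩ := hx.two_fours h60
  have hP : Inv x (P : Subgroup G) := (hPQ P).2 (Or.inl rfl)
  have hP4 : Nat.card (P : Subgroup G) = 4 := by
    simpa using SmallSimple.Basic.card_sylow_eq_pow (p := 2) (a := 2) (m := 15) (by rw [h60]; norm_num) (by norm_num) P
  have key : ∀ w : G, orderOf w = 2 → ∃ g : G, g * w * g⁻¹ ∈ (P : Subgroup G) := fun w hw => by
    obtain ⟨R, hR⟩ := (IsPGroup.of_card (n := 1) (by rw [Nat.card_zpowers, hw, pow_one]) :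
      IsPGroup 2 (zpowers w)).exists_le_sylow
    obtain ⟨g, rfl⟩ := MulAction.exists_smul_eq G R P
    exact ⟨g, by rw [Sylow.coe_subgroup_smul]; exact ⟨w, hR (mem_zpowers w), rfl⟩⟩
  obtain ⟨g₁, h₁⟩ := key v hv
  obtain ⟨g₂, h₂⟩ := key t (hx.inverter_order ht)
  set a := g₁ * v * g₁⁻¹
  set b := g₂ * t * g₂⁻¹
  have hne : ∀ g w : G, orderOf w = 2 → g * w * g⁻¹ ≠ 1 := fun g w hw e => by
    rw [conj_eq_one_iff] at e
    rw [e, orderOf_one] at hw
    omega
  -- the three involutions of `P` are conjugate under `x`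
  have h3 : a = b ∨ a = x * b * x⁻¹ ∨ a = x * (x * b * x⁻¹) * x⁻¹ := by
    by_contra hcon
    push Not at hcon
    haveI := Fintype.ofFinite (P : Subgroup G)
    set c := x * b * x⁻¹
    set d := x * c * x⁻¹
    have hb1 : b ≠ 1 := hne _ _ (hx.inverter_order ht)
    have ha1 : a ≠ 1 := hne _ _ hv
    have hne' : ∀ y ∈ (P : Subgroup G), y ≠ 1 → x * y * x⁻¹ ≠ y := fun y hy hy1 e =>
      hy1 (hx.eq_one_of_comm (by rw [hP4]; norm_num) hy (mul_inv_eq_iff_eq_mul.1 e))
    have hc : c ∈ (P : Subgroup G) := hP.conj_mem h₂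
    have hd : d ∈ (P : Subgroup G) := hP.conj_mem hc
    have hc1 : c ≠ 1 := by simp only [c, ne_eq, conj_eq_one_iff]; exact hb1
    have hdb : d ≠ b := fun e => hne' b h₂ hb1 (by
      calc c = x * d * x⁻¹ := by rw [e]
        _ = x * x * x * b * (x * x * x)⁻¹ := by simp only [d, c]; group
        _ = b := by rw [hx.mul_three]; group)
    have hd1 : d ≠ 1 := by simp only [d, ne_eq, conj_eq_one_iff]; exact hc1
    have hsub : ({⟨a, h₁⟩, ⟨b, h₂⟩, ⟨c, hc⟩, ⟨d, hd⟩, 1} : Finset (P : Subgroup G)).card ≤ 4 :=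
      (Finset.card_le_univ _).trans (by rw [← Nat.card_eq_fintype_card, hP4])
    rw [Finset.card_insert_of_notMem (by simp [Subtype.ext_iff, hcon.1, hcon.2.1, hcon.2.2, ha1]),
      Finset.card_insert_of_notMem (by simp [Subtype.ext_iff, (hne' b h₂ hb1).symm, hdb.symm, hb1, c]),
      Finset.card_insert_of_notMem (by simp [Subtype.ext_iff, (hne' c hc hc1).symm, hc1, d]),
      Finset.card_insert_of_notMem (by simp [Subtype.ext_iff, hd1]), Finset.card_singleton] at hsub
    omega
  have hb : ∃ g, g * t * g⁻¹ = a := by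
    rcases h3 with e | e | e
    · exact ⟨g₂, e.symm⟩
    · exact ⟨x * g₂, by rw [e]; simp only [b]; group⟩
    · exact ⟨x * x * g₂, by rw [e]; simp only [b]; group⟩
  obtain ⟨g, hg⟩ := hb
  exact ⟨g₁⁻¹ * g, by
    calc g₁⁻¹ * g * t * (g₁⁻¹ * g)⁻¹ = g₁⁻¹ * (g * t * g⁻¹) * g₁ := by group
      _ = v := by rw [hg]; simp only [a]; group⟩

/-- The invariant Sylow two-subgroups have exponent two. -/
theorem Self.sixty_sq [IsSimpleGroup G] (hx : Self x) (h60 : Nat.card G = 60) {P : Sylow 2 G}
    (hP : Inv x (P : Subgroup G)) {y : G} (hy : y ∈ (P : Subgroup G)) : y * y = 1 := by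
  haveI : Fact (Nat.Prime 2) := ⟨Nat.prime_two⟩
  have hP4 : Nat.card (P : Subgroup G) = 4 := by
    simpa using SmallSimple.Basic.card_sylow_eq_pow (p := 2) (a := 2) (m := 15) (by rw [h60]; norm_num) (by norm_num) P
  have hP3 : ¬ 3 ∣ Nat.card (P : Subgroup G) := by rw [hP4]; norm_num
  have h4 : ∀ z ∈ (P : Subgroup G), z * z * (z * z) = 1 := fun z hz => by
    have := (pow_card_eq_one' (x := (⟨z, hz⟩ : (P : Subgroup G))))
    rw [hP4] at this
    calc z * z * (z * z) = z ^ 4 := by simp [pow_succ, mul_assoc]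
      _ = 1 := congrArg Subtype.val this
  -- `y * y` is fixed by `x`
  by_contra hne
  have hy1 : y ≠ 1 := fun e => hne (by rw [e, one_mul])
  have ho : orderOf (⟨y, hy⟩ : (P : Subgroup G)) = 4 := by
    rw [orderOf_mk]
    exact orderOf_eq_prime_pow (p := 2) (n := 1) (by rwa [pow_one, pow_two]) (by
      calc y ^ 2 ^ 2 = y * y * (y * y) := by simp [pow_succ, mul_assoc]
        _ = 1 := h4 y hy)
  have htop : zpowers (⟨y, hy⟩ : (P : Subgroup G)) = ⊤ := eq_top_of_card_eq _ (by
    rw [Nat.card_zpowers, ho, hP4])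
  obtain ⟨k, hk⟩ := htop.ge (mem_top (⟨x * y * x⁻¹, hP.conj_mem hy⟩ : (P : Subgroup G)))
  have hk' : y ^ k = x * y * x⁻¹ := by simpa using congrArg Subtype.val hk
  refine hne (hx.eq_one_of_comm hP3 (mul_mem hy hy) ?_)
  have e : x * (y * y) * x⁻¹ = y ^ k * y ^ k := by rw [hk']; group
  have h4z : y ^ (4 : ℤ) = 1 := by
    rw [show y ^ (4 : ℤ) = y ^ (4 : ℕ) from zpow_natCast y 4]
    calc y ^ 4 = y * y * (y * y) := by simp [pow_succ, mul_assoc]
      _ = 1 := h4 y hy
  rcases Int.even_or_odd k with ⟨j, rfl⟩ | ⟨j, rfl⟩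
  · exfalso
    have h' : x * (y * y) * x⁻¹ = 1 := by
      rw [e]
      calc y ^ (j + j) * y ^ (j + j) = y ^ ((4 : ℤ) * j) := by rw [← zpow_add]; congr 1; ring
        _ = 1 := by rw [zpow_mul, h4z, one_zpow]
    exact hne (conj_eq_one_iff.1 h')
  · refine mul_inv_eq_iff_eq_mul.1 (e.trans ?_)
    calc y ^ (2 * j + 1) * y ^ (2 * j + 1) = y ^ ((4 : ℤ) * j) * y ^ (2 : ℤ) := by
          rw [← zpow_add, ← zpow_add]; congr 1; ring
      _ = y * y := by rw [zpow_mul, h4z, one_zpow, one_mul]; exact zpow_two y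

/-- The pair generating a tetrahedral subgroup. -/
theorem Self.sixty_pair [IsSimpleGroup G] (hx : Self x) (h60 : Nat.card G = 60) :
    ∃ b : G, b ^ 3 = 1 ∧ b ≠ 1 ∧ (x * b) ^ 3 = 1 ∧ x * b ≠ 1 ∧ b * x ≠ x * b ∧
      (x * b * x) * (x * b * x) = 1 ∧ x * b * x ≠ 1 := by
  haveI : Fact (Nat.Prime 2) := ⟨Nat.prime_two⟩
  obtain ⟨P, Q, -, hPQ⟩ := hx.two_fours h60
  have hP : Inv x (P : Subgroup G) := (hPQ P).2 (Or.inl rfl)
  have hP4 : Nat.card (P : Subgroup G) = 4 := by
    simpa using SmallSimple.Basic.card_sylow_eq_pow (p := 2) (a := 2) (m := 15) (by rw [h60]; norm_num) (by norm_num) P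
  have hP3 : ¬ 3 ∣ Nat.card (P : Subgroup G) := by rw [hP4]; norm_num
  have hcomm : ∀ y ∈ (P : Subgroup G), ∀ z ∈ (P : Subgroup G), y * z = z * y := fun y hy z hz =>
    congrArg Subtype.val ((IsPGroup.isMulCommutative_of_card_eq_prime_sq (p := 2) (by rw [hP4]; norm_num)).is_comm.comm
      (⟨y, hy⟩ : (P : Subgroup G)) ⟨z, hz⟩)
  haveI : Nontrivial (P : Subgroup G) := Finite.one_lt_card_iff_nontrivial.1 (by rw [hP4]; norm_num)
  obtain ⟨⟨v, hv⟩, hv1'⟩ := exists_ne (1 : (P : Subgroup G))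
  have hv1 : v ≠ 1 := fun e => hv1' (Subtype.ext e)
  have hsq : ∀ y ∈ (P : Subgroup G), y * y = 1 := fun y hy => hx.sixty_sq h60 hP hy
  have hvi : v⁻¹ = v := inv_eq_of_mul_eq_one_left (hsq v hv)
  set w := x * v * x⁻¹ with hw
  set w' := x * w * x⁻¹ with hw'
  have hwP : w ∈ (P : Subgroup G) := hP.conj_mem hv
  have hw'P : w' ∈ (P : Subgroup G) := hP.conj_mem hwP
  have hwv : w ≠ v := fun e => hv1 (hx.eq_one_of_comm hP3 hv (mul_inv_eq_iff_eq_mul.1 e))
  have htri : v * w * w' = 1 := hx.triple hP hP3 hv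
  have hxb : x * (v * x * v) = v * (x * x) := by
    have h1 : x * (v * x * v) = w * w' * (x * x) := by simp only [hw', hw]; group
    rw [h1]
    have : v * w = w' := by
      rw [eq_inv_of_mul_eq_one_left htri]; exact inv_eq_of_mul_eq_one_left (hsq _ hw'P)
    rw [hcomm w hwP w' hw'P, ← this, mul_assoc v w w, hsq w hwP, mul_one]
  have hxb2 : x * (v * x * v) = v * x⁻¹ := by rw [hxb, hx.mul_self]
  have hbx : v * x * v * x = (x⁻¹) * (x * (v * x * v)) * x := by group
  refine ⟨v * x * v, ?_, ?_, ?_, ?_, ?_, ?_, ?_⟩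
  · have := (hx.conj v).pow_three; rwa [hvi] at this
  · intro e
    have := (hx.conj v).ne_one
    rw [hvi] at this; exact this e
  · rw [hxb2]; exact (hx.inv.order_coset hP.inv hP3 hv).pow_three
  · rw [hxb2]; exact (hx.inv.order_coset hP.inv hP3 hv).ne_one
  · intro e
    rw [hxb2] at e
    rw [hbx, hxb2] at e
    have h : x⁻¹ * v = v * x⁻¹ := by
      calc x⁻¹ * v = x⁻¹ * (v * x⁻¹) * x := by group
        _ = v * x⁻¹ := e
    exact hv1 (hx.inv.eq_one_of_comm hP3 hv h)
  · rw [hxb2, inv_mul_cancel_right, hsq v hv]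
  · rw [hxb2, inv_mul_cancel_right]; exact hv1

end Cfsg.Agent.SelfThree
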